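/-
Representations whose character is a multiple of an irreducible one, as explicit copies;
the trace of a two-sided multiplication; the character cut out by a commuting idempotent.
-/
import Cfsg.Agent.Lib.Char.Complete
import Cfsg.Agent.Lib.Solvable.HHLinear
import Mathlib.LinearAlgebra.PID
import Mathlib.LinearAlgebra.Contraction
import Mathlib.LinearAlgebra.GeneralLinearGroup.AlgEquiv

namespace Cfsg.Agent.OddSection

open Module Cfsg.Agent.Char

universe u v v' w

variable {K : Type u} [Group K] {U : Type v} [AddCommGroup U] [Module ℂ U]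
  {V : Type w} [AddCommGroup V] [Module ℂ V] {V' : Type v'} [AddCommGroup V'] [Module ℂ V']

/-- `V` as `m` explicit copies of `U`. -/
structure Copies (ρ : Representation ℂ K U) (σ : Representation ℂ K V) (m : ℕ) where
  inj : Fin m → (U →ₗ[ℂ] V)
  proj : Fin m → (V →ₗ[ℂ] U)
  inj_comm : ∀ i k, σ k ∘ₗ inj i = inj i ∘ₗ ρ k
  proj_comm : ∀ i k, proj i ∘ₗ σ k = ρ k ∘ₗ proj i
  proj_inj : ∀ i j, proj i ∘ₗ inj j = if i = j then (LinearMap.id : U →ₗ[ℂ] U) else 0
  sum_inj_proj : ∑ i, inj i ∘ₗ proj i = (LinearMap.id : V →ₗ[ℂ] V)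

/-- The trace of a two-sided multiplication on a space of linear maps. -/
theorem trace_sandwich [FiniteDimensional ℂ V] [FiniteDimensional ℂ V'] (A : V' →ₗ[ℂ] V')
    (B : V →ₗ[ℂ] V) (F : (V →ₗ[ℂ] V') →ₗ[ℂ] (V →ₗ[ℂ] V'))
    (hF : ∀ X, F X = A ∘ₗ X ∘ₗ B) :
    LinearMap.trace ℂ (V →ₗ[ℂ] V') F = LinearMap.trace ℂ V B * LinearMap.trace ℂ V' A := by
  have e : (dualTensorHomEquiv (R := ℂ) (M := V) (N := V')).conj
      (TensorProduct.map (Module.Dual.transpose (R := ℂ) B) A) = F := by
    refine LinearMap.ext fun X => ?_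
    rw [hF]
    obtain ⟨t, rfl⟩ := (dualTensorHomEquiv (R := ℂ) (M := V) (N := V')).surjective X
    rw [LinearEquiv.conj_apply_apply, LinearEquiv.symm_apply_apply]
    induction t with
    | zero => simp
    | tmul f x => ext y; simp [Module.Dual.transpose_apply]
    | add a b ha hb => rw [map_add, map_add, map_add, ha, hb, LinearMap.add_comp,
        LinearMap.comp_add]
  rw [← e, LinearMap.trace_conj', LinearMap.trace_tensorProduct', LinearMap.trace_transpose']

/-- The trace against a commuting idempotent is a character. -/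
theorem isCharacter_of_idem [FiniteDimensional ℂ V] (σ : Representation ℂ K V) (p : Module.End ℂ V)
    (hp : p * p = p) (hc : ∀ k, σ k * p = p * σ k) :
    Cfsg.IsCharacter K fun k => LinearMap.trace ℂ V (σ k * p) := by
  let s : Subrepresentation σ := ⟨LinearMap.range p, by
    rintro k _ ⟨x, rfl⟩
    exact ⟨σ k x, (LinearMap.congr_fun (hc k) x).symm⟩⟩
  suffices h : (fun k => LinearMap.trace ℂ V (σ k * p)) = s.toRepresentation.character by
    rw [h]; exact isCharacter_of_rep _
  funext k
  have hmem : ∀ x, (σ k * p) x ∈ LinearMap.range p := fun x =>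
    ⟨σ k x, (LinearMap.congr_fun (hc k) x).symm⟩
  rw [← LinearMap.trace_restrict_eq_of_forall_mem (LinearMap.range p) _ hmem fun x _ => hmem x]
  refine congrArg (LinearMap.trace ℂ (LinearMap.range p)) (LinearMap.ext fun x => Subtype.ext ?_)
  obtain ⟨x, y, rfl⟩ := x
  show (σ k * p) (p y) = σ k (p y)
  rw [Module.End.mul_apply, ← Module.End.mul_apply p p, hp]

namespace Copies

variable {ρ : Representation ℂ K U} {σ : Representation ℂ K V} {σ' : Representation ℂ K V'}
  {m m' : ℕ}

/-- A representation whose character is a multiple consists of copies. -/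
theorem exists_of_char [Finite K] [FiniteDimensional ℂ U] [FiniteDimensional ℂ V]
    (ρ : Representation ℂ K U) (σ : Representation ℂ K V) (m : ℕ)
    (h : ∀ k, σ.character k = (m : ℂ) * ρ.character k) : Nonempty (Copies ρ σ m) := by
  classical
  let τ : Representation ℂ K (Fin m → U) :=
    { toFun := fun k => LinearMap.pi fun i => ρ k ∘ₗ LinearMap.proj i
      map_one' := by ext; simp
      map_mul' := fun a b => by ext; simp }
  have hsum : ∀ (a : U →ₗ[ℂ] U), LinearMap.pi (fun i : Fin m => a ∘ₗ LinearMap.proj i) =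
      ∑ i, (LinearMap.single ℂ (fun _ : Fin m => U) i) ∘ₗ a ∘ₗ LinearMap.proj i := fun a => by
    refine LinearMap.ext fun x => funext fun j => ?_
    simp [LinearMap.sum_apply, Finset.sum_apply, Pi.single_apply]
  have hτ : τ.character = σ.character := by
    funext k
    show LinearMap.trace ℂ (Fin m → U) (LinearMap.pi fun i => ρ k ∘ₗ LinearMap.proj i) = _
    rw [hsum, map_sum, h]
    have : ∀ i : Fin m, LinearMap.trace ℂ (Fin m → U)
        ((LinearMap.single ℂ (fun _ : Fin m => U) i) ∘ₗ ρ k ∘ₗ LinearMap.proj i) =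
        ρ.character k := fun i => by
      rw [LinearMap.trace_comp_comm', LinearMap.comp_assoc, LinearMap.proj_comp_single_same,
        LinearMap.comp_id]
      rfl
    rw [Finset.sum_congr rfl fun i _ => this i, Finset.sum_const, Finset.card_univ,
      Fintype.card_fin, nsmul_eq_mul]
  obtain ⟨e⟩ := nonempty_equiv_of_char_eq τ σ hτ
  have he : ∀ k x, e.toLinearEquiv (τ k x) = σ k (e.toLinearEquiv x) :=
    fun k x => e.toIntertwiningMap.isIntertwining τ σ k x
  refine ⟨⟨fun i => e.toLinearEquiv.toLinearMap ∘ₗ LinearMap.single ℂ (fun _ : Fin m => U) i,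
    fun i => LinearMap.proj i ∘ₗ e.toLinearEquiv.symm.toLinearMap,
    fun i k => LinearMap.ext fun x => ?_, fun i k => LinearMap.ext fun x => ?_,
    fun i j => LinearMap.ext fun x => ?_, LinearMap.ext fun x => ?_⟩⟩
  · show σ k (e.toLinearEquiv _) = e.toLinearEquiv _
    rw [← he]
    refine congrArg e.toLinearEquiv (funext fun l => ?_)
    show ρ k ((Pi.single i x : Fin m → U) l) = (Pi.single i (ρ k x) : Fin m → U) l
    rcases eq_or_ne l i with rfl | hl <;> simp [*]
  · show e.toLinearEquiv.symm (σ k x) i = ρ k (e.toLinearEquiv.symm x i)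
    have := he k (e.toLinearEquiv.symm x)
    rw [LinearEquiv.apply_symm_apply] at this
    rw [← this, LinearEquiv.symm_apply_apply]
    rfl
  · show e.toLinearEquiv.symm (e.toLinearEquiv (Pi.single j x)) i = _
    rw [LinearEquiv.symm_apply_apply]
    split_ifs with hij
    · subst hij; simp
    · simp [hij]
  · rw [LinearMap.sum_apply]
    show ∑ i, e.toLinearEquiv (Pi.single i (e.toLinearEquiv.symm x i)) = x
    rw [← map_sum, Finset.univ_sum_single, LinearEquiv.apply_symm_apply]

/-- Transport of endomorphisms to the copies. -/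
def lift (c : Copies ρ σ m) : Module.End ℂ U →ₗ[ℂ] Module.End ℂ V where
  toFun x := ∑ i, c.inj i ∘ₗ x ∘ₗ c.proj i
  map_add' x y := by simp only [LinearMap.add_comp, LinearMap.comp_add, Finset.sum_add_distrib]
  map_smul' r x := by simp only [LinearMap.smul_comp, LinearMap.comp_smul, Finset.smul_sum,
    RingHom.id_apply]

theorem lift_apply (c : Copies ρ σ m) (x : Module.End ℂ U) :
    c.lift x = ∑ i, c.inj i ∘ₗ x ∘ₗ c.proj i := rfl

theorem proj_lift (c : Copies ρ σ m) (x : Module.End ℂ U) (i : Fin m) :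
    c.proj i ∘ₗ c.lift x = x ∘ₗ c.proj i := by
  refine LinearMap.ext fun v => ?_
  simp only [lift_apply, LinearMap.comp_apply, LinearMap.sum_apply, map_sum]
  rw [Finset.sum_eq_single i]
  · rw [← LinearMap.comp_apply (c.proj i), c.proj_inj, if_pos rfl]; rfl
  · intro j _ hj
    rw [← LinearMap.comp_apply (c.proj i), c.proj_inj, if_neg (Ne.symm hj)]; rfl
  · exact fun h => absurd (Finset.mem_univ i) h

theorem lift_inj (c : Copies ρ σ m) (x : Module.End ℂ U) (i : Fin m) :
    c.lift x ∘ₗ c.inj i = c.inj i ∘ₗ x := by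
  refine LinearMap.ext fun v => ?_
  simp only [lift_apply, LinearMap.comp_apply, LinearMap.sum_apply]
  rw [Finset.sum_eq_single i]
  · rw [← LinearMap.comp_apply (c.proj i), c.proj_inj, if_pos rfl]; rfl
  · intro j _ hj
    rw [← LinearMap.comp_apply (c.proj j), c.proj_inj, if_neg hj]; simp
  · exact fun h => absurd (Finset.mem_univ i) h

/-- Every map is determined by its components. -/
theorem eq_sum_comp (c : Copies ρ σ m) (c' : Copies ρ σ' m') (X : V →ₗ[ℂ] V') :
    X = ∑ i, ∑ j, c'.inj i ∘ₗ (c'.proj i ∘ₗ X ∘ₗ c.inj j) ∘ₗ c.proj j := by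
  refine LinearMap.ext fun v => ?_
  simp only [LinearMap.sum_apply, LinearMap.comp_apply]
  have h1 := LinearMap.congr_fun c.sum_inj_proj v
  have h2 := LinearMap.congr_fun c'.sum_inj_proj (X v)
  simp only [LinearMap.sum_apply, LinearMap.comp_apply, LinearMap.id_apply] at h1 h2
  simp only [← map_sum, h1, h2]

theorem lift_one (c : Copies ρ σ m) : c.lift 1 = 1 := c.sum_inj_proj

theorem lift_mul (c : Copies ρ σ m) (x y : Module.End ℂ U) :
    c.lift (x * y) = c.lift x * c.lift y := by
  rw [c.lift_apply (x * y), Module.End.mul_eq_comp (c.lift x)]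
  conv_rhs => rw [c.lift_apply y]
  rw [← Module.End.mul_eq_comp, Finset.mul_sum]
  refine Finset.sum_congr rfl fun i _ => ?_
  refine LinearMap.ext fun v => ?_
  exact (LinearMap.congr_fun (c.lift_inj x i) (y (c.proj i v))).symm

theorem lift_rho (c : Copies ρ σ m) (k : K) : c.lift (ρ k) = σ k := by
  have : ∀ i, c.inj i ∘ₗ ρ k ∘ₗ c.proj i = σ k ∘ₗ (c.inj i ∘ₗ c.proj i) := fun i => by
    rw [← LinearMap.comp_assoc, ← c.inj_comm, LinearMap.comp_assoc]
  rw [lift_apply, Finset.sum_congr rfl fun i _ => this i]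
  simp only [← Module.End.mul_eq_comp]
  rw [← Finset.mul_sum]
  exact (congrArg (σ k * ·) c.sum_inj_proj).trans (mul_one _)

/-- The trace is the sum of the traces of the diagonal components. -/
theorem trace_eq [FiniteDimensional ℂ U] [FiniteDimensional ℂ V] (c : Copies ρ σ m)
    (X : Module.End ℂ V) :
    LinearMap.trace ℂ V X = ∑ i, LinearMap.trace ℂ U (c.proj i ∘ₗ X ∘ₗ c.inj i) := by
  conv_lhs => rw [← mul_one X, ← c.lift_one, c.lift_apply, Finset.mul_sum, map_sum]
  refine Finset.sum_congr rfl fun i _ => ?_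
  rw [Module.End.one_eq_id, LinearMap.id_comp, Module.End.mul_eq_comp, ← LinearMap.comp_assoc,
    LinearMap.trace_comp_comm']

theorem trace_lift [FiniteDimensional ℂ U] [FiniteDimensional ℂ V] (c : Copies ρ σ m)
    (x : Module.End ℂ U) :
    LinearMap.trace ℂ V (c.lift x) = m * LinearMap.trace ℂ U x := by
  rw [c.trace_eq]
  have : ∀ i, c.proj i ∘ₗ c.lift x ∘ₗ c.inj i = x := fun i => by
    rw [c.lift_inj, ← LinearMap.comp_assoc, c.proj_inj, if_pos rfl, LinearMap.id_comp]
  simp [this]

/-- Components of an equivariant map are equivariant. -/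
theorem comp_comm (c : Copies ρ σ m) (c' : Copies ρ σ' m') (X : V →ₗ[ℂ] V') {k : K} {r : ℂ}
    (h : σ' k ∘ₗ X = r • (X ∘ₗ σ k)) (i : Fin m') (j : Fin m) :
    ρ k ∘ₗ (c'.proj i ∘ₗ X ∘ₗ c.inj j) = r • ((c'.proj i ∘ₗ X ∘ₗ c.inj j) ∘ₗ ρ k) := by
  refine LinearMap.ext fun x => ?_
  have h1 := LinearMap.congr_fun (c'.proj_comm i k) (X (c.inj j x))
  have h2 := LinearMap.congr_fun h (c.inj j x)
  have h3 := LinearMap.congr_fun (c.inj_comm j k) x
  simp only [LinearMap.comp_apply, LinearMap.smul_apply] at h1 h2 h3 ⊢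
  rw [← h1, h2, map_smul, h3]

/-- An endomorphism commuting with the group and with all such endomorphisms is a scalar. -/
theorem center_scalar [FiniteDimensional ℂ U] [ρ.IsIrreducible] (c : Copies ρ σ m)
    (z : Module.End ℂ V) (hz : ∀ k, σ k * z = z * σ k)
    (hc : ∀ x : Module.End ℂ V, (∀ k, σ k * x = x * σ k) → z * x = x * z) :
    ∃ r : ℂ, z = r • 1 := by
  classical
  have hE : ∀ a b k, σ k * (c.inj a ∘ₗ c.proj b) = (c.inj a ∘ₗ c.proj b) * σ k := fun a b k => by
    simp only [Module.End.mul_eq_comp]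
    rw [← LinearMap.comp_assoc, c.inj_comm, LinearMap.comp_assoc, ← c.proj_comm,
      LinearMap.comp_assoc]
  have key : ∀ a b p q, (c.proj p ∘ₗ z ∘ₗ c.inj a) ∘ₗ (c.proj b ∘ₗ c.inj q) =
      (c.proj p ∘ₗ c.inj a) ∘ₗ (c.proj b ∘ₗ z ∘ₗ c.inj q) := fun a b p q =>
    LinearMap.ext fun x => congrArg (c.proj p) (LinearMap.congr_fun (hc _ (hE a b)) (c.inj q x))
  rcases Nat.eq_zero_or_pos m with rfl | hm
  · exact ⟨0, by rw [zero_smul, ← mul_one z, ← c.lift_one, c.lift_apply]; simp⟩
  let i0 : Fin m := ⟨0, hm⟩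
  obtain ⟨r, hr⟩ := schur_scalar ρ (c.proj i0 ∘ₗ z ∘ₗ c.inj i0) fun k x => by
    have := LinearMap.congr_fun (c.comp_comm c z (k := k) (r := 1)
      ((hz k).trans (one_smul ℂ (z * σ k)).symm) i0 i0) x
    simpa using this.symm
  refine ⟨r, ?_⟩
  rw [c.eq_sum_comp c z]
  have hdiag : ∀ i, c.proj i ∘ₗ z ∘ₗ c.inj i = r • LinearMap.id := fun i => by
    have := key i i0 i i0
    rw [c.proj_inj, if_pos rfl, LinearMap.comp_id, c.proj_inj, if_pos rfl, LinearMap.id_comp] at this
    rw [this, hr]
  have hoff : ∀ i j, i ≠ j → c.proj i ∘ₗ z ∘ₗ c.inj j = 0 := fun i j hij => by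
    have := key j j i j
    rw [c.proj_inj j j, if_pos rfl, LinearMap.comp_id, c.proj_inj i j, if_neg hij,
      LinearMap.zero_comp] at this
    exact this
  rw [← c.lift_one, c.lift_apply, Finset.smul_sum]
  refine Finset.sum_congr rfl fun i _ => ?_
  rw [Finset.sum_eq_single i]
  · rw [hdiag, LinearMap.smul_comp, LinearMap.comp_smul, Module.End.one_eq_id]
  · intro j _ hj
    rw [hoff i j (Ne.symm hj)]; simp
  · exact fun h => absurd (Finset.mem_univ i) h

/-- The trace of an equivariant endomorphism against the group is proportional to the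
character. -/
theorem trace_mul_comm_map [FiniteDimensional ℂ U] [FiniteDimensional ℂ V] [ρ.IsIrreducible]
    (c : Copies ρ σ m) (x : Module.End ℂ V) (hx : ∀ k, σ k * x = x * σ k) :
    ∃ a : ℂ, ∀ k, LinearMap.trace ℂ V (σ k * x) = a * ρ.character k := by
  choose r hr using fun i => schur_scalar ρ (c.proj i ∘ₗ x ∘ₗ c.inj i) fun k v => by
    have := LinearMap.congr_fun (c.comp_comm c x (k := k) (r := 1)
      ((hx k).trans (one_smul ℂ (x * σ k)).symm) i i) v
    simpa using this.symm
  refine ⟨∑ i, r i, fun k => ?_⟩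
  rw [c.trace_eq, Finset.sum_mul]
  refine Finset.sum_congr rfl fun i _ => ?_
  have : c.proj i ∘ₗ (σ k * x) ∘ₗ c.inj i = r i • ρ k := by
    rw [Module.End.mul_eq_comp, ← LinearMap.comp_assoc, ← LinearMap.comp_assoc, c.proj_comm,
      LinearMap.comp_assoc, LinearMap.comp_assoc, hr i, LinearMap.comp_smul, LinearMap.comp_id]
  rw [this, map_smul, smul_eq_mul]
  rfl

end Copies

end Cfsg.Agent.OddSection
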