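/-
Linear characters of an abelian section of a group as eigenvalue systems, and the projections
onto their eigenspaces.
-/
import Cfsg.Agent.Lib.Char.CoprimeConstituent
import Mathlib.Algebra.Group.Hom.Instances

namespace Cfsg.Agent.OddSection

open Module Cfsg.Agent.Char

set_option linter.unusedSectionVars false
set_option linter.style.haveILetI false

universe u v w

variable {K : Type u} [Group K] (L : Subgroup K) [L.Normal]

/-- Linear characters trivial on `L`. -/
def Lam := K ⧸ L →* ℂˣ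

noncomputable instance : CommGroup (Lam L) := inferInstanceAs (CommGroup (K ⧸ L →* ℂˣ))

variable {L}

/-- The underlying homomorphism. -/
def Lam.hom (a : Lam L) : K ⧸ L →* ℂˣ := a

/-- The value of such a character. -/
def lv (a : Lam L) (k : K) : ℂ := ((a.hom (k : K ⧸ L) : ℂˣ) : ℂ)

@[simp] theorem lv_one (k : K) : lv (1 : Lam L) k = 1 := rfl

theorem lv_mul (a b : Lam L) (k : K) : lv (a * b) k = lv a k * lv b k := rfl

theorem lv_inv (a : Lam L) (k : K) : lv a⁻¹ k = (lv a k)⁻¹ :=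
  Units.val_inv_eq_inv_val (a.hom (k : K ⧸ L))

theorem lv_map_mul (a : Lam L) (k k' : K) : lv a (k * k') = lv a k * lv a k' := by simp [lv]

theorem lv_map_inv (a : Lam L) (k : K) : lv a k⁻¹ = (lv a k)⁻¹ := by simp [lv]

theorem lv_ne_zero (a : Lam L) (k : K) : lv a k ≠ 0 := Units.ne_zero _

theorem lv_mem (a : Lam L) {k : K} (hk : k ∈ L) : lv a k = 1 := by
  simp [lv, (QuotientGroup.eq_one_iff k).2 hk]

theorem lv_ext {a b : Lam L} (h : ∀ k, lv a k = lv b k) : a = b := by
  refine MonoidHom.ext fun x => ?_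
  obtain ⟨k, rfl⟩ := QuotientGroup.mk_surjective x
  exact Units.ext (h k)

instance finite_lam [Finite K] : Finite (Lam L) :=
  Finite.of_injective (β := Cfsg.IrrCharacter (K ⧸ L))
    (fun f => ⟨_, isIrrCharacter_linear f.hom⟩)
    fun _ _ e => CharExtend.detHom_unique (congrArg Subtype.val e)

theorem pow_card_eq_one_lam [Finite K] (a : Lam L) : a ^ Nat.card K = 1 := by
  have hp : ∀ (n : ℕ) (k : K), lv (a ^ n) k = lv a (k ^ n) := fun n k => by
    induction n with
    | zero => rw [pow_zero, pow_zero, lv_one, lv_mem a (one_mem L)]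
    | succ n ih => rw [pow_succ, pow_succ, lv_mul, lv_map_mul, ih]
  exact lv_ext fun k => by rw [hp, pow_card_eq_one', lv_one, lv_mem a (one_mem L)]

theorem sum_lv_eq_zero [Fintype K] {a : Lam L} (ha : a ≠ 1) : ∑ k : K, lv a k = 0 := by
  obtain ⟨k0, hk0⟩ : ∃ k0, lv a k0 ≠ 1 := by
    by_contra h
    exact ha (lv_ext fun k => by rw [not_exists_not.1 h k, lv_one])
  have e : ∑ k : K, lv a k = lv a k0 * ∑ k : K, lv a k := by
    rw [Finset.mul_sum]
    exact (Fintype.sum_equiv (Equiv.mulLeft k0) _ _ fun k => (lv_map_mul a k0 k).symm).symm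
  have h0 : (1 - lv a k0) * ∑ k : K, lv a k = 0 := by rw [sub_mul, one_mul, ← e, sub_self]
  exact (mul_eq_zero.1 h0).resolve_left (sub_ne_zero.2 (Ne.symm hk0))

theorem sum_lam_lv [Finite K] [Fintype (Lam L)] (hab : ∀ a b : K ⧸ L, a * b = b * a) (k : K)
    [Decidable (k ∈ L)] :
    ∑ a : Lam L, lv a k = if k ∈ L then (L.index : ℂ) else 0 := by
  classical
  letI : CommGroup (K ⧸ L) := { (inferInstance : Group (K ⧸ L)) with mul_comm := hab }
  letI : Fintype (K ⧸ L →* ℂˣ) := ‹Fintype (Lam L)›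
  have := CoprimeConst.sum_hom_apply (k : K ⧸ L)
  rw [← Subgroup.index_eq_card] at this
  refine Eq.trans this ?_
  by_cases hk : k ∈ L
  · rw [if_pos hk, if_pos ((QuotientGroup.eq_one_iff k).2 hk)]
  · rw [if_neg hk, if_neg fun h => hk ((QuotientGroup.eq_one_iff k).1 h)]

section proj

variable [Fintype K] {W : Type w} [AddCommGroup W] [Module ℂ W] (σ : Representation ℂ K W)

/-- The projection on the eigenspace of a linear character. -/
noncomputable def pr (a : Lam L) : W →ₗ[ℂ] W := (Nat.card K : ℂ)⁻¹ • ∑ k, lv a k⁻¹ • σ k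

theorem pr_apply (a : Lam L) (w : W) :
    pr σ a w = (Nat.card K : ℂ)⁻¹ • ∑ k, lv a k⁻¹ • σ k w := by
  simp [pr, LinearMap.sum_apply]

theorem apply_pr (a : Lam L) (k : K) (w : W) : σ k (pr σ a w) = lv a k • pr σ a w := by
  rw [pr_apply, map_smul, map_sum, smul_comm (lv a k), Finset.smul_sum (r := lv a k)]
  congr 1
  refine Fintype.sum_equiv (Equiv.mulLeft k) _ _ fun x => ?_
  rw [map_smul, Equiv.coe_mulLeft, map_mul, Module.End.mul_apply, smul_smul]
  congr 1
  have := lv_ne_zero a k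
  simp only [lv_map_inv, lv_map_mul]
  field_simp

theorem pr_of_eig {a : Lam L} {w : W} (h : ∀ k, σ k w = lv a k • w) : pr σ a w = w := by
  rw [pr_apply]
  simp only [h, smul_smul, ← lv_map_mul, inv_mul_cancel]
  simp [lv_mem a (one_mem L), Finset.sum_const, ← Nat.cast_smul_eq_nsmul ℂ, smul_smul,
    Nat.card_eq_fintype_card]

theorem pr_of_eig_ne {a b : Lam L} {w : W} (h : ∀ k, σ k w = lv b k • w) (hne : b ≠ a) :
    pr σ a w = 0 := by
  rw [pr_apply]
  simp only [h, smul_smul]
  rw [← Finset.sum_smul]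
  have e : ∀ k, lv a k⁻¹ * lv b k = lv (a⁻¹ * b) k := fun k => by
    rw [lv_mul, lv_inv, lv_map_inv]
  rw [Finset.sum_congr rfl fun k _ => e k,
    sum_lv_eq_zero (fun h1 => hne (inv_mul_eq_one.1 h1).symm), zero_smul, smul_zero]

theorem pr_pr (a : Lam L) (w : W) : pr σ a (pr σ a w) = pr σ a w :=
  pr_of_eig σ fun k => apply_pr σ a k w

theorem sum_pr [Fintype (Lam L)] [Fintype L] (hab : ∀ a b : K ⧸ L, a * b = b * a) (w : W) :
    ∑ a : Lam L, pr σ a w = (Nat.card L : ℂ)⁻¹ • ∑ l : L, σ l w := by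
  classical
  simp only [pr_apply]
  rw [← Finset.smul_sum, Finset.sum_comm]
  simp only [← Finset.sum_smul, sum_lam_lv hab, L.inv_mem_iff, ite_smul, zero_smul]
  rw [← Finset.sum_filter, Finset.sum_subtype (p := fun k => k ∈ L) _ (fun k => by simp),
    ← Finset.smul_sum, smul_smul]
  congr 1
  rw [← Subgroup.card_mul_index L, Nat.cast_mul]
  have h1 : (L.index : ℂ) ≠ 0 := Nat.cast_ne_zero.2 L.index_ne_zero_of_finite
  field_simp

theorem sum_pr_of_fixed [Fintype (Lam L)] (hab : ∀ a b : K ⧸ L, a * b = b * a) {w : W}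
    (h : ∀ l ∈ L, σ l w = w) : ∑ a : Lam L, pr σ a w = w := by
  classical
  rw [sum_pr σ hab, Finset.sum_congr rfl fun (l : L) _ => h l l.2, Finset.sum_const,
    Finset.card_univ, ← Nat.cast_smul_eq_nsmul ℂ, smul_smul, ← Nat.card_eq_fintype_card,
    inv_mul_cancel₀ (Nat.cast_ne_zero.2 Nat.card_pos.ne'), one_smul]

end proj

section eig

variable {V : Type v} [AddCommGroup V] [Module ℂ V] {V' : Type w} [AddCommGroup V'] [Module ℂ V']
  (σ : Representation ℂ K V) (σ' : Representation ℂ K V')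

/-- `X` intertwines `σ` with the twist of `σ'` by `a`. -/
def IsEig (a : Lam L) (X : V →ₗ[ℂ] V') : Prop := ∀ k, σ' k ∘ₗ X = lv a k • (X ∘ₗ σ k)

theorem isEig_iff {a : Lam L} {X : V →ₗ[ℂ] V'} :
    IsEig σ σ' a X ↔ ∀ k, Representation.linHom σ σ' k X = lv a k • X := by
  refine forall_congr' fun k => ⟨fun h => LinearMap.ext fun x => ?_, fun h => LinearMap.ext fun x => ?_⟩
  · have := LinearMap.congr_fun h (σ k⁻¹ x)
    simpa using this
  · have := LinearMap.congr_fun h (σ k x)
    simpa using this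

theorem isEig_pr [Fintype K] (a : Lam L) (X : V →ₗ[ℂ] V') :
    IsEig σ σ' a (pr (Representation.linHom σ σ') a X) :=
  (isEig_iff σ σ').2 fun k => apply_pr _ a k X

theorem isEig_sum {a : Lam L} {ι : Type*} (s : Finset ι) {X : ι → (V →ₗ[ℂ] V')}
    (h : ∀ i ∈ s, IsEig σ σ' a (X i)) : IsEig σ σ' a (∑ i ∈ s, X i) := fun k => by
  refine LinearMap.ext fun x => ?_
  simp only [LinearMap.comp_apply, LinearMap.smul_apply, LinearMap.sum_apply, map_sum,
    Finset.smul_sum]
  exact Finset.sum_congr rfl fun i hi => LinearMap.congr_fun (h i hi k) x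

end eig

end Cfsg.Agent.OddSection
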