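/-
The twisting characters of an irreducible representation over an abelian section of odd order:
the commutator pairing, a compatible choice of twisting operators and the central involution.
-/
import Cfsg.Agent.Lib.OddSection.Proj
import Cfsg.Agent.Lib.OddSection.Copies
import Cfsg.Agent.Lib.Schur.Extra
import Mathlib.Tactic.Group
import Mathlib.Tactic.LinearCombination

set_option linter.unusedSectionVars false
set_option linter.style.haveILetI false

namespace Cfsg.Agent.OddSection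

open Module Cfsg.Agent.Char

universe u v

variable {K : Type u} [Group K] [Finite K] {U : Type v} [AddCommGroup U] [Module ℂ U]
  [FiniteDimensional ℂ U] (ρ : Representation ℂ K U) [ρ.IsIrreducible]
  (L : Subgroup K) [L.Normal]

/-- The hypotheses on the section and the representation. -/
structure Graded : Prop where
  odd : Odd (Nat.card K)
  comm : ∀ a b : K ⧸ L, a * b = b * a
  center : ∀ z : Module.End ℂ U, (∀ l ∈ L, Commute (ρ l) z) →
    (∀ x, (∀ l ∈ L, Commute (ρ l) x) → Commute z x) → ∃ c : ℂ, z = c • 1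

variable {L}

theorem eig_mul {a b : Lam L} {x y : Module.End ℂ U} (hx : IsEig ρ ρ a x) (hy : IsEig ρ ρ b y) :
    IsEig ρ ρ (a * b) (x * y) := fun k => by
  have h1 : ρ k * x = lv a k • (x * ρ k) := hx k
  have h2 : ρ k * y = lv b k • (y * ρ k) := hy k
  show ρ k * (x * y) = lv (a * b) k • (x * y * ρ k)
  rw [← mul_assoc, h1, smul_mul_assoc, mul_assoc x, h2, mul_smul_comm, smul_smul, lv_mul,
    mul_assoc x y]

theorem eig_smul {a : Lam L} {x : Module.End ℂ U} (hx : IsEig ρ ρ a x) (c : ℂ) :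
    IsEig ρ ρ a (c • x) := fun k => by
  rw [LinearMap.comp_smul, LinearMap.smul_comp, hx k, smul_comm]

theorem eig_one : IsEig ρ ρ (1 : Lam L) (1 : Module.End ℂ U) := fun k => by
  show ρ k * 1 = lv (1 : Lam L) k • (1 * ρ k)
  rw [lv_one, one_smul, mul_one, one_mul]

theorem eig_zero (a : Lam L) : IsEig ρ ρ a (0 : Module.End ℂ U) := fun k => by simp

theorem eig_comm {a : Lam L} {x : Module.End ℂ U} (hx : IsEig ρ ρ a x) :
    ∀ l ∈ L, Commute (ρ l) x := fun l hl => by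
  show ρ l * x = x * ρ l
  rw [show ρ l * x = _ from hx l, lv_mem a hl, one_smul]
  rfl

theorem eig_inv {a : Lam L} {x y : Module.End ℂ U} (hx : IsEig ρ ρ a x) (h1 : x * y = 1)
    (h2 : y * x = 1) : IsEig ρ ρ a⁻¹ y := fun k => by
  show ρ k * y = lv a⁻¹ k • (y * ρ k)
  have h : ρ k * x = lv a k • (x * ρ k) := hx k
  have h' : y * ρ k = lv a k • (ρ k * y) := by
    have := congrArg (fun z => y * z * y) h
    simp only [mul_smul_comm, smul_mul_assoc] at this
    rw [← mul_assoc y (ρ k) x, mul_assoc (y * ρ k) x y, h1, mul_one, ← mul_assoc y x, h2,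
      one_mul] at this
    exact this
  rw [h', smul_smul, lv_inv, inv_mul_cancel₀ (lv_ne_zero a k), one_smul]

theorem trace_eig {a : Lam L} {x : Module.End ℂ U} (hx : IsEig ρ ρ a x) (ha : a ≠ 1) :
    LinearMap.trace ℂ U x = 0 := by
  obtain ⟨k, hk⟩ : ∃ k, lv a k ≠ 1 := by
    by_contra h
    exact ha (lv_ext fun k => by rw [not_exists_not.1 h k, lv_one])
  have h : ρ k * x * ρ k⁻¹ = lv a k • x := by
    rw [show ρ k * x = lv a k • (x * ρ k) from hx k, smul_mul_assoc, mul_assoc, ← map_mul,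
      mul_inv_cancel, map_one, mul_one]
  have := congrArg (LinearMap.trace ℂ U) h
  rw [LinearMap.trace_mul_comm, ← mul_assoc, ← map_mul, inv_mul_cancel, map_one, one_mul,
    map_smul, smul_eq_mul] at this
  have h0 : (1 - lv a k) * LinearMap.trace ℂ U x = 0 := by rw [sub_mul, one_mul, ← this, sub_self]
  exact (mul_eq_zero.1 h0).resolve_left (sub_ne_zero.2 (Ne.symm hk))

/-- A nonzero twisting operator is invertible. -/
theorem eig_unit {a : Lam L} {x : Module.End ℂ U} (hx : IsEig ρ ρ a x) (h0 : x ≠ 0) : IsUnit x := by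
  rw [LinearMap.isUnit_iff_ker_eq_bot]
  let s : Subrepresentation ρ := ⟨LinearMap.ker x, fun k v hv => by
    rw [LinearMap.mem_ker] at hv ⊢
    have := LinearMap.congr_fun (hx k) v
    simp only [LinearMap.comp_apply, LinearMap.smul_apply, hv, map_zero] at this
    exact (smul_eq_zero.1 this.symm).resolve_left (lv_ne_zero a k)⟩
  rcases eq_bot_or_eq_top s with h | h
  · exact congrArg Subrepresentation.toSubmodule h
  · exact absurd (LinearMap.ker_eq_top.1 (congrArg Subrepresentation.toSubmodule h)) h0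

theorem eig_scalar {x : Module.End ℂ U} (hx : IsEig ρ ρ (1 : Lam L) x) : ∃ c : ℂ, x = c • 1 :=
  schur_scalar ρ x fun k v => by
    have := LinearMap.congr_fun (hx k) v
    simpa using this.symm

theorem eig_unique {a : Lam L} {x y : Module.End ℂ U} (hx : IsEig ρ ρ a x) (h0 : x ≠ 0)
    (hy : IsEig ρ ρ a y) : ∃ c : ℂ, y = c • x := by
  obtain ⟨u, rfl⟩ := eig_unit ρ hx h0
  have h := eig_mul ρ hy (eig_inv ρ hx u.mul_inv u.inv_mul)
  rw [mul_inv_cancel] at h
  obtain ⟨c, hc⟩ := eig_scalar ρ h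
  refine ⟨c, ?_⟩
  have := congrArg (· * (u : Module.End ℂ U)) hc
  simpa [mul_assoc] using this

include ρ in
theorem one_ne_zero_end : (1 : Module.End ℂ U) ≠ 0 := by
  haveI := nontrivial_of_irreducible ρ
  exact one_ne_zero

theorem eig_mul_ne_zero {a b : Lam L} {x y : Module.End ℂ U} (hx : IsEig ρ ρ a x) (h1 : x ≠ 0)
    (hy : IsEig ρ ρ b y) (h2 : y ≠ 0) : x * y ≠ 0 := fun h => by
  have := (eig_unit ρ hx h1).mul (eig_unit ρ hy h2)
  rw [h] at this
  haveI := nontrivial_of_irreducible ρ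
  exact not_isUnit_zero ‹IsUnit (0 : Module.End ℂ U)›

variable (L) in
/-- The twists fixing the representation. -/
def lam0 : Subgroup (Lam L) where
  carrier := {a | ∃ x : Module.End ℂ U, x ≠ 0 ∧ IsEig ρ ρ a x}
  one_mem' := ⟨1, one_ne_zero_end ρ, eig_one ρ⟩
  mul_mem' := fun ⟨x, hx0, hx⟩ ⟨y, hy0, hy⟩ =>
    ⟨x * y, eig_mul_ne_zero ρ hx hx0 hy hy0, eig_mul ρ hx hy⟩
  inv_mem' := fun ⟨x, hx0, hx⟩ => by
    obtain ⟨u, rfl⟩ := eig_unit ρ hx hx0
    haveI := nontrivial_of_irreducible ρ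
    exact ⟨_, (u⁻¹).ne_zero, eig_inv ρ hx u.mul_inv u.inv_mul⟩

/-- The commutator pairing. -/
noncomputable def beta (a b : Lam L) : ℂ :=
  Classical.epsilon fun c : ℂ => ∀ x y : Module.End ℂ U,
    IsEig ρ ρ a x → IsEig ρ ρ b y → x * y = c • (y * x)

theorem beta_spec {a b : Lam L} {x y : Module.End ℂ U} (hx : IsEig ρ ρ a x)
    (hy : IsEig ρ ρ b y) : x * y = beta ρ a b • (y * x) := by
  refine (Classical.epsilon_spec (p := fun c : ℂ => ∀ x y : Module.End ℂ U,
    IsEig ρ ρ a x → IsEig ρ ρ b y → x * y = c • (y * x)) ?_) x y hx hy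
  by_cases h : ∃ x0 y0 : Module.End ℂ U, x0 ≠ 0 ∧ y0 ≠ 0 ∧ IsEig ρ ρ a x0 ∧ IsEig ρ ρ b y0
  · obtain ⟨x0, y0, hx0, hy0, hxe, hye⟩ := h
    have h1 := eig_mul ρ hxe hye
    rw [mul_comm a b] at h1
    obtain ⟨c, hc⟩ := eig_unique ρ (eig_mul ρ hye hxe) (eig_mul_ne_zero ρ hye hy0 hxe hx0) h1
    refine ⟨c, fun x y hx hy => ?_⟩
    obtain ⟨r, rfl⟩ := eig_unique ρ hxe hx0 hx
    obtain ⟨s, rfl⟩ := eig_unique ρ hye hy0 hy
    rw [smul_mul_smul_comm, smul_mul_smul_comm, hc, smul_smul, smul_smul]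
    congr 1
    ring
  · refine ⟨1, fun x y hx hy => ?_⟩
    by_cases hx0 : x = 0
    · subst hx0; simp
    by_cases hy0 : y = 0
    · subst hy0; simp
    exact absurd ⟨x, y, hx0, hy0, hx, hy⟩ h

theorem beta_unique {a b : Lam L} {x y : Module.End ℂ U} (hx : IsEig ρ ρ a x) (hx0 : x ≠ 0)
    (hy : IsEig ρ ρ b y) (hy0 : y ≠ 0) {c : ℂ} (h : x * y = c • (y * x)) : beta ρ a b = c := by
  have h' := beta_spec ρ hx hy
  rw [h] at h'
  have h0 : (beta ρ a b - c) • (y * x) = 0 := by rw [sub_smul, ← h', sub_self]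
  exact sub_eq_zero.1 ((smul_eq_zero.1 h0).resolve_right (eig_mul_ne_zero ρ hy hy0 hx hx0))

theorem beta_self {a : Lam L} (ha : a ∈ lam0 ρ L) : beta ρ a a = 1 := by
  obtain ⟨x, hx0, hx⟩ := ha
  exact beta_unique ρ hx hx0 hx hx0 (one_smul ℂ _).symm

theorem beta_mul_beta {a b : Lam L} (ha : a ∈ lam0 ρ L) (hb : b ∈ lam0 ρ L) :
    beta ρ a b * beta ρ b a = 1 := by
  obtain ⟨x, hx0, hx⟩ := ha
  obtain ⟨y, hy0, hy⟩ := hb
  have h := beta_spec ρ hx hy
  rw [beta_spec ρ hy hx, smul_smul] at h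
  have h0 : (beta ρ a b * beta ρ b a - 1) • (x * y) = 0 := by
    rw [sub_smul, one_smul, ← h, sub_self]
  exact sub_eq_zero.1 ((smul_eq_zero.1 h0).resolve_right (eig_mul_ne_zero ρ hx hx0 hy hy0))

theorem beta_mul_left {a b c : Lam L} (ha : a ∈ lam0 ρ L) (hb : b ∈ lam0 ρ L) (hc : c ∈ lam0 ρ L) :
    beta ρ (a * b) c = beta ρ a c * beta ρ b c := by
  obtain ⟨x, hx0, hx⟩ := ha
  obtain ⟨y, hy0, hy⟩ := hb
  obtain ⟨z, hz0, hz⟩ := hc
  refine beta_unique ρ (eig_mul ρ hx hy) (eig_mul_ne_zero ρ hx hx0 hy hy0) hz hz0 ?_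
  rw [mul_assoc, beta_spec ρ hy hz, mul_smul_comm, ← mul_assoc, beta_spec ρ hx hz,
    smul_mul_assoc, smul_smul, mul_assoc z, mul_comm (beta ρ b c)]

theorem beta_pow_left {a b : Lam L} (ha : a ∈ lam0 ρ L) (hb : b ∈ lam0 ρ L) (n : ℕ) :
    beta ρ (a ^ n) b = beta ρ a b ^ n := by
  induction n with
  | zero =>
    obtain ⟨y, hy0, hy⟩ := hb
    rw [pow_zero, pow_zero]
    exact beta_unique ρ (eig_one ρ) (one_ne_zero_end ρ) hy hy0 (by rw [one_smul, one_mul, mul_one])
  | succ n ih => rw [pow_succ, beta_mul_left ρ (pow_mem ha n) ha hb, ih, pow_succ]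

/-- The square root of the commutator pairing. -/
noncomputable def gamma (a b : lam0 ρ L) : ℂ :=
  beta ρ (a : Lam L) (b : Lam L) ^ ((Nat.card K + 1) / 2)

theorem gamma_mul_left (a b c : lam0 ρ L) : gamma ρ (a * b) c = gamma ρ a c * gamma ρ b c := by
  simp only [gamma, Subgroup.coe_mul, beta_mul_left ρ a.2 b.2 c.2, mul_pow]

theorem gamma_self (a : lam0 ρ L) : gamma ρ a a = 1 := by
  rw [gamma, beta_self ρ a.2, one_pow]

theorem gamma_mul_gamma (a b : lam0 ρ L) : gamma ρ a b * gamma ρ b a = 1 := by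
  rw [gamma, gamma, ← mul_pow, beta_mul_beta ρ a.2 b.2, one_pow]

theorem gamma_ne_zero (a b : lam0 ρ L) : gamma ρ a b ≠ 0 :=
  left_ne_zero_of_mul_eq_one (gamma_mul_gamma ρ a b)

theorem gamma_mul_right (a b c : lam0 ρ L) : gamma ρ a (b * c) = gamma ρ a b * gamma ρ a c := by
  have h1 := gamma_mul_gamma ρ a (b * c)
  rw [gamma_mul_left] at h1
  have h2 := gamma_mul_gamma ρ a b
  have h3 := gamma_mul_gamma ρ a c
  linear_combination (gamma ρ a b * gamma ρ a c) * h1 -
    (gamma ρ a (b * c) * (gamma ρ a c * gamma ρ c a)) * h2 - gamma ρ a (b * c) * h3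

theorem gamma_inv_left (a b : lam0 ρ L) : gamma ρ a⁻¹ b = gamma ρ b a := by
  have h1 := gamma_mul_left ρ a⁻¹ a b
  rw [inv_mul_cancel] at h1
  have h2 : gamma ρ 1 b * gamma ρ 1 b = gamma ρ 1 b := by
    rw [← gamma_mul_left, mul_one]
  rw [mul_right_eq_self₀] at h2
  have h3 : gamma ρ 1 b = 1 := h2.resolve_right (gamma_ne_zero ρ 1 b)
  rw [h3] at h1
  linear_combination (gamma ρ b a) * (-h1) - gamma ρ a⁻¹ b * gamma_mul_gamma ρ a b

theorem gamma_sq (hG : Graded ρ L) (a b : lam0 ρ L) :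
    gamma ρ a b * gamma ρ a b = beta ρ (a : Lam L) (b : Lam L) := by
  rw [gamma, ← pow_add]
  obtain ⟨n, hn⟩ := hG.odd
  have h1 : beta ρ (a : Lam L) (b : Lam L) ^ Nat.card K = 1 := by
    rw [← beta_pow_left ρ a.2 b.2, pow_card_eq_one_lam, ← pow_zero (a : Lam L),
      beta_pow_left ρ a.2 b.2, pow_zero]
  rw [show (Nat.card K + 1) / 2 + (Nat.card K + 1) / 2 = Nat.card K + 1 by omega, pow_succ, h1,
    one_mul]

/-- A twisting operator together with its twist. -/
@[ext] structure Pair (ρ : Representation ℂ K U) [ρ.IsIrreducible] (L : Subgroup K) [L.Normal] where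
  a : lam0 ρ L
  x : Module.End ℂ U
  ne : x ≠ 0
  eig : IsEig ρ ρ (a : Lam L) x

/-- The twisted product of pairs is commutative. -/
noncomputable def pairGroup (hG : Graded ρ L) : CommGroup (Pair ρ L) where
  mul p q := ⟨p.a * q.a, gamma ρ q.a p.a • (p.x * q.x),
    smul_ne_zero (gamma_ne_zero ρ _ _) (eig_mul_ne_zero ρ p.eig p.ne q.eig q.ne),
    eig_smul ρ (eig_mul ρ p.eig q.eig) _⟩
  one := ⟨1, 1, one_ne_zero_end ρ, eig_one ρ⟩
  inv p := ⟨p.a⁻¹, Ring.inverse p.x, fun h => by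
      haveI := nontrivial_of_irreducible ρ
      have := Ring.mul_inverse_cancel _ (eig_unit ρ p.eig p.ne)
      rw [h, mul_zero] at this
      exact zero_ne_one this,
    eig_inv ρ p.eig (Ring.mul_inverse_cancel _ (eig_unit ρ p.eig p.ne))
      (Ring.inverse_mul_cancel _ (eig_unit ρ p.eig p.ne))⟩
  mul_assoc p q r := Pair.ext (mul_assoc _ _ _) (by
    show gamma ρ r.a (p.a * q.a) • (gamma ρ q.a p.a • (p.x * q.x) * r.x) =
      gamma ρ (q.a * r.a) p.a • (p.x * gamma ρ r.a q.a • (q.x * r.x))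
    rw [smul_mul_assoc, mul_smul_comm, smul_smul, smul_smul, gamma_mul_right, gamma_mul_left,
      mul_assoc p.x]
    congr 1
    ring)
  one_mul p := Pair.ext (one_mul _) (by
    show gamma ρ p.a 1 • (1 * p.x) = p.x
    have h : gamma ρ p.a 1 = gamma ρ p.a 1 * gamma ρ p.a 1 := by rw [← gamma_mul_right, mul_one]
    rw [one_mul, (mul_right_eq_self₀.1 h.symm).resolve_right (gamma_ne_zero ρ _ _), one_smul])
  mul_one p := Pair.ext (mul_one _) (by
    show gamma ρ 1 p.a • (p.x * 1) = p.x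
    have h : gamma ρ 1 p.a = gamma ρ 1 p.a * gamma ρ 1 p.a := by rw [← gamma_mul_left, mul_one]
    rw [mul_one, (mul_right_eq_self₀.1 h.symm).resolve_right (gamma_ne_zero ρ _ _), one_smul])
  inv_mul_cancel p := Pair.ext (inv_mul_cancel _) (by
    show gamma ρ p.a p.a⁻¹ • (Ring.inverse p.x * p.x) = 1
    have h := gamma_mul_gamma ρ p.a p.a⁻¹
    rw [gamma_inv_left, gamma_self, mul_one] at h
    rw [h, one_smul, Ring.inverse_mul_cancel _ (eig_unit ρ p.eig p.ne)])
  mul_comm p q := Pair.ext (mul_comm _ _) (by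
    show gamma ρ q.a p.a • (p.x * q.x) = gamma ρ p.a q.a • (q.x * p.x)
    rw [beta_spec ρ p.eig q.eig, smul_smul, ← gamma_sq ρ hG, ← mul_assoc,
      mul_comm (gamma ρ q.a p.a), gamma_mul_gamma, one_mul])

/-- A compatible choice of twisting operators. -/
theorem exists_section (hG : Graded ρ L) : ∃ u : lam0 ρ L → Module.End ℂ U,
    (∀ a, u a ≠ 0) ∧ (∀ a : lam0 ρ L, IsEig ρ ρ (a : Lam L) (u a)) ∧ u 1 = 1 ∧
      ∀ a b, u a * u b = gamma ρ a b • u (a * b) := by
  classical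
  letI := pairGroup ρ hG
  haveI := nontrivial_of_irreducible ρ
  let i : ℂˣ →* Pair ρ L :=
    { toFun := fun c => ⟨1, (c : ℂ) • (1 : Module.End ℂ U), smul_ne_zero c.ne_zero one_ne_zero,
        eig_smul ρ (eig_one ρ) _⟩
      map_one' := Pair.ext rfl (by show ((1 : ℂˣ) : ℂ) • (1 : Module.End ℂ U) = 1; simp)
      map_mul' := fun c d => Pair.ext (one_mul (1 : lam0 ρ L)).symm (by
        show ((c * d : ℂˣ) : ℂ) • (1 : Module.End ℂ U) =
          gamma ρ (1 : lam0 ρ L) 1 • (((c : ℂ) • (1 : Module.End ℂ U)) * ((d : ℂ) • 1))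
        rw [gamma_self, one_smul, smul_mul_smul_comm, one_mul, Units.val_mul]) }
  have hi : Function.Injective i := fun c d h => by
    have h' : (c : ℂ) • (1 : Module.End ℂ U) = (d : ℂ) • 1 := congrArg Pair.x h
    exact Units.ext (smul_left_injective ℂ one_ne_zero h')
  obtain ⟨ψ, hψ⟩ := Schur.exists_extend_units i hi (MonoidHom.id ℂˣ)
  choose w hw0 hw using fun a : lam0 ρ L => a.2
  let p : lam0 ρ L → Pair ρ L := fun a => ⟨a, w a, hw0 a, hw a⟩
  let q : lam0 ρ L → Pair ρ L := fun a => i (ψ (p a))⁻¹ * p a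
  have hqa : ∀ a, (q a).a = a := fun a => one_mul a
  have hqψ : ∀ a, ψ (q a) = 1 := fun a => by
    show ψ (i (ψ (p a))⁻¹ * p a) = 1
    rw [map_mul, show ψ (i (ψ (p a))⁻¹) = (ψ (p a))⁻¹ from DFunLike.congr_fun hψ _,
      inv_mul_cancel]
  have huniq : ∀ m m' : Pair ρ L, m.a = m'.a → ψ m = 1 → ψ m' = 1 → m = m' := fun m m' ha h h' => by
    obtain ⟨c, hc⟩ := eig_unique ρ m'.eig m'.ne (ha ▸ m.eig)
    have hc0 : c ≠ 0 := fun h0 => m.ne (by rw [hc, h0, zero_smul])
    have : m = i (Units.mk0 c hc0) * m' := Pair.ext (ha.trans (one_mul m'.a).symm) (by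
      show m.x = gamma ρ m'.a (1 : lam0 ρ L) • ((c • (1 : Module.End ℂ U)) * m'.x)
      have h1 : gamma ρ m'.a 1 * gamma ρ m'.a 1 = gamma ρ m'.a 1 := by
        rw [← gamma_mul_right, mul_one]
      rw [(mul_right_eq_self₀.1 h1).resolve_right (gamma_ne_zero ρ _ _), one_smul,
        smul_mul_assoc, one_mul]
      exact hc)
    rw [this, map_mul, h', mul_one,
      show ψ (i (Units.mk0 c hc0)) = Units.mk0 c hc0 from DFunLike.congr_fun hψ _] at h
    rw [this, h, map_one, one_mul]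
  refine ⟨fun a => (q a).x, fun a => (q a).ne, fun a => ?_, ?_, fun a b => ?_⟩
  · have h1 := (q a).eig
    rwa [hqa] at h1
  · exact congrArg Pair.x (huniq (q 1) 1 (hqa 1) (hqψ 1) (map_one ψ))
  · have h : q a * q b = q (a * b) := huniq _ _
      (by show (q a).a * (q b).a = _; rw [hqa, hqa, hqa])
      (by rw [map_mul, hqψ, hqψ, one_mul]) (hqψ _)
    have h' : gamma ρ (q b).a (q a).a • ((q a).x * (q b).x) = (q (a * b)).x := congrArg Pair.x h
    rw [hqa, hqa] at h'
    show (q a).x * (q b).x = gamma ρ a b • (q (a * b)).x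
    rw [← h', smul_smul, gamma_mul_gamma, one_smul]

end Cfsg.Agent.OddSection
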