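/-
The involution inverting all twisting operators, and the torsor of such involutions.
-/
import Cfsg.Agent.Lib.OddSection.Grade
import Mathlib.Tactic.FieldSimp

set_option linter.unusedSectionVars false
set_option linter.style.haveILetI false

namespace Cfsg.Agent.OddSection

open Module Cfsg.Agent.Char

universe u v

variable {K : Type u} [Group K] [Finite K] {U : Type v} [AddCommGroup U] [Module ℂ U]
  [FiniteDimensional ℂ U] (ρ : Representation ℂ K U) [ρ.IsIrreducible]
  {L : Subgroup K} [L.Normal]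

variable (L) in
/-- Involutions of trace `τ` commuting with `L` and inverting the twists. -/
structure Good (τ : ℂ) (J : Module.End ℂ U) : Prop where
  sq : J * J = 1
  comm : ∀ l ∈ L, Commute (ρ l) J
  flip : ∀ (a : Lam L) (x : Module.End ℂ U), IsEig ρ ρ a x → IsEig ρ ρ a⁻¹ (J * x * J)
  tr : LinearMap.trace ℂ U J = τ

variable {ρ}

theorem finrank_ne_zero (ρ : Representation ℂ K U) [ρ.IsIrreducible] : (finrank ℂ U : ℂ) ≠ 0 :=
  Nat.cast_ne_zero.2 (finrank_pos_of_irreducible ρ).ne'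

theorem trace_one_end : LinearMap.trace ℂ U (1 : Module.End ℂ U) = (finrank ℂ U : ℂ) :=
  LinearMap.trace_one ℂ U

section sect

variable {u : lam0 ρ L → Module.End ℂ U}

theorem gamma_inv_right_self (a : lam0 ρ L) : gamma ρ a a⁻¹ = 1 := by
  have h := gamma_mul_gamma ρ a a⁻¹
  rwa [gamma_inv_left, gamma_self, mul_one] at h

theorem sect_mul_inv (h1 : u 1 = 1) (hm : ∀ a b, u a * u b = gamma ρ a b • u (a * b))
    (a : lam0 ρ L) : u a * u a⁻¹ = 1 := by
  rw [hm, gamma_inv_right_self, one_smul, mul_inv_cancel, h1]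

theorem sect_inv_mul (h1 : u 1 = 1) (hm : ∀ a b, u a * u b = gamma ρ a b • u (a * b))
    (a : lam0 ρ L) : u a⁻¹ * u a = 1 := by
  have h := sect_mul_inv h1 hm a⁻¹
  rwa [inv_inv] at h

theorem trace_sect (he : ∀ a : lam0 ρ L, IsEig ρ ρ (a : Lam L) (u a)) (h1 : u 1 = 1)
    (a : lam0 ρ L) [Decidable (a = 1)] :
    LinearMap.trace ℂ U (u a) = if a = 1 then (finrank ℂ U : ℂ) else 0 := by
  split_ifs with h
  · rw [h, h1, trace_one_end]
  · exact trace_eig ρ (he a) fun h' => h (Subtype.ext h')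

theorem coeff_eq_zero (he : ∀ a : lam0 ρ L, IsEig ρ ρ (a : Lam L) (u a)) (h1 : u 1 = 1)
    (hm : ∀ a b, u a * u b = gamma ρ a b • u (a * b)) [Fintype (lam0 ρ L)] {m : lam0 ρ L → ℂ}
    (h : ∑ a, m a • u a = 0) (b : lam0 ρ L) : m b = 0 := by
  classical
  have h' := congrArg (fun x : Module.End ℂ U => LinearMap.trace ℂ U (x * u b⁻¹)) h
  simp only [Finset.sum_mul, smul_mul_assoc, hm, map_sum, map_smul, smul_eq_mul, trace_sect he h1,
    zero_mul, map_zero, mul_inv_eq_one] at h'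
  rw [Finset.sum_eq_single b (fun c _ hc => by rw [if_neg hc]; ring)
    (fun h'' => absurd (Finset.mem_univ _) h''), if_pos rfl, gamma_inv_right_self, one_mul] at h'
  exact (mul_eq_zero.1 h').resolve_right (finrank_ne_zero ρ)

theorem sect_expand (hG : Graded ρ L) (hne : ∀ a, u a ≠ 0)
    (he : ∀ a : lam0 ρ L, IsEig ρ ρ (a : Lam L) (u a)) [Fintype (lam0 ρ L)]
    (x : Module.End ℂ U) (hx : ∀ l ∈ L, Commute (ρ l) x) :
    ∃ m : lam0 ρ L → ℂ, x = ∑ a, m a • u a := by
  classical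
  haveI : Fintype K := Fintype.ofFinite K
  haveI : Fintype (Lam L) := Fintype.ofFinite _
  choose m hm using fun a : lam0 ρ L =>
    eig_unique ρ (he a) (hne a) (isEig_pr ρ ρ (a : Lam L) x)
  refine ⟨m, ?_⟩
  have h := sum_pr_of_fixed (Representation.linHom ρ ρ) hG.comm (w := x) fun l hl => by
    rw [Representation.linHom_apply]
    show ρ l * (x * ρ l⁻¹) = x
    rw [← mul_assoc, (hx l hl).eq, mul_assoc, ← map_mul, mul_inv_cancel, map_one, mul_one]
  conv_lhs => rw [← h]
  refine Eq.trans ?_ (Finset.sum_congr rfl fun a _ => hm a)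
  rw [← Finset.sum_filter_of_ne (p := fun a => a ∈ lam0 ρ L)
      (fun a _ ha => ⟨_, ha, isEig_pr ρ ρ a x⟩),
    Finset.sum_subtype _ (fun a => by simp : ∀ a, a ∈ Finset.univ.filter (fun a => a ∈ lam0 ρ L) ↔
      a ∈ lam0 ρ L)]

theorem sect_nondeg (hG : Graded ρ L) (hne : ∀ a, u a ≠ 0)
    (he : ∀ a : lam0 ρ L, IsEig ρ ρ (a : Lam L) (u a)) {s : lam0 ρ L}
    (hs : ∀ b : lam0 ρ L, beta ρ (s : Lam L) (b : Lam L) = 1) : s = 1 := by
  classical
  haveI : Fintype (lam0 ρ L) := Fintype.ofFinite _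
  by_contra h
  obtain ⟨c, hc⟩ := hG.center (u s) (eig_comm ρ (he s)) fun x hx => by
    obtain ⟨m, rfl⟩ := sect_expand hG hne he x hx
    refine Commute.sum_right _ _ _ fun b _ => Commute.smul_right ?_ _
    show u s * u b = u b * u s
    rw [beta_spec ρ (he s) (he b), hs b, one_smul]
  have ht := trace_eig ρ (he s) fun h' => h (Subtype.ext h')
  rw [hc, map_smul, trace_one_end, smul_eq_mul] at ht
  exact hne s (by rw [hc, (mul_eq_zero.1 ht).resolve_right (finrank_ne_zero ρ), zero_smul])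

theorem sum_gamma (hG : Graded ρ L) (hne : ∀ a, u a ≠ 0)
    (he : ∀ a : lam0 ρ L, IsEig ρ ρ (a : Lam L) (u a)) [Fintype (lam0 ρ L)] {s : lam0 ρ L}
    (hs : s ≠ 1) : ∑ a, gamma ρ a s = 0 := by
  obtain ⟨b, hb⟩ : ∃ b, gamma ρ b s ≠ 1 := by
    by_contra hn
    refine hs (sect_nondeg hG hne he fun b => ?_)
    rw [← gamma_sq ρ hG]
    have h1 := gamma_mul_gamma ρ s b
    rw [not_exists_not.1 hn b, mul_one] at h1
    rw [h1, one_mul]
  have e : ∑ a, gamma ρ a s = gamma ρ b s * ∑ a, gamma ρ a s := by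
    rw [Finset.mul_sum]
    exact (Fintype.sum_equiv (Equiv.mulLeft b) _ _ fun a => (gamma_mul_left ρ b a s).symm).symm
  have h0 : (1 - gamma ρ b s) * ∑ a, gamma ρ a s = 0 := by rw [sub_mul, one_mul, ← e, sub_self]
  exact (mul_eq_zero.1 h0).resolve_left (sub_ne_zero.2 (Ne.symm hb))

end sect

variable (ρ)

/-- The torsor of good involutions. -/
theorem exists_base (hG : Graded ρ L) :
    ∃ (u : lam0 ρ L → Module.End ℂ U) (J : Module.End ℂ U),
      (∀ a, u a ≠ 0) ∧ (∀ a : lam0 ρ L, IsEig ρ ρ (a : Lam L) (u a)) ∧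
      (∀ a b, u a * u b = gamma ρ a b • u (a * b)) ∧
      LinearMap.trace ℂ U J ≠ 0 ∧
      (∀ a, Good ρ L (LinearMap.trace ℂ U J) (u a * J)) ∧
      (∀ J', Good ρ L (LinearMap.trace ℂ U J) J' → ∃ a, J' = u a * J) ∧
      (∀ a b (c : ℂ), u a * J = c • (u b * J) → a = b) := by
  classical
  obtain ⟨u, hne, he, h1, hm⟩ := exists_section ρ hG
  haveI : Fintype (lam0 ρ L) := Fintype.ofFinite _
  obtain ⟨c, hc⟩ := IsAlgClosed.exists_pow_nat_eq ((Fintype.card (lam0 ρ L) : ℂ)⁻¹) two_pos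
  have hn0 : (Fintype.card (lam0 ρ L) : ℂ) ≠ 0 := Nat.cast_ne_zero.2 Fintype.card_ne_zero
  have hc0 : c ≠ 0 := fun h => inv_ne_zero hn0 (by rw [← hc, h]; ring)
  obtain ⟨J, hJdef⟩ : ∃ J : Module.End ℂ U, J = c • ∑ a, u a := ⟨_, rfl⟩
  have hJsq : J * J = 1 := by
    have e1 : ∀ a : lam0 ρ L, u a * ∑ b, u b = ∑ s, gamma ρ a s • u s := fun a => by
      rw [Finset.mul_sum]
      refine Fintype.sum_equiv (Equiv.mulLeft a) _ _ fun b => ?_
      rw [hm, Equiv.coe_mulLeft, gamma_mul_right, gamma_self, one_mul]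
    rw [hJdef, smul_mul_smul_comm, ← sq, hc, Finset.sum_mul, Finset.sum_congr rfl fun a _ => e1 a,
      Finset.sum_comm]
    rw [Finset.sum_eq_single (1 : lam0 ρ L)]
    · have e2 : ∀ a, gamma ρ a (1 : lam0 ρ L) = 1 := fun a => by
        have := gamma_mul_right ρ a a⁻¹ a
        rw [gamma_inv_right_self, one_mul, gamma_self] at this
        have h2 : gamma ρ a 1 * gamma ρ a 1 = gamma ρ a 1 := by rw [← gamma_mul_right, mul_one]
        exact (mul_right_eq_self₀.1 h2).resolve_right (gamma_ne_zero ρ _ _)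
      simp only [e2, one_smul, h1, Finset.sum_const, Finset.card_univ]
      rw [← Nat.cast_smul_eq_nsmul ℂ, smul_smul, inv_mul_cancel₀ hn0, one_smul]
    · intro s _ hs
      rw [← Finset.sum_smul, sum_gamma hG hne he hs, zero_smul]
    · exact fun h => absurd (Finset.mem_univ _) h
  have hJu : ∀ b, J * u b = u b⁻¹ * J := fun b => by
    rw [hJdef, smul_mul_assoc, mul_smul_comm, Finset.sum_mul, Finset.mul_sum]
    congr 1
    refine Fintype.sum_equiv ((Equiv.mulRight b).trans (Equiv.mulLeft b)) _ _ fun a => ?_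
    show u a * u b = u b⁻¹ * u (b * (a * b))
    rw [hm, hm, inv_mul_cancel_left, gamma_inv_left, gamma_mul_left, gamma_mul_left, gamma_self,
      one_mul, mul_one]
  have hJJ : ∀ b, J * u b * J = u b⁻¹ := fun b => by rw [hJu, mul_assoc, hJsq, mul_one]
  have hJc : ∀ l ∈ L, Commute (ρ l) J := fun l hl =>
    hJdef ▸ (Commute.sum_right _ _ _ fun a _ => eig_comm ρ (he a) l hl).smul_right c
  have hJflip : ∀ (a : Lam L) (x : Module.End ℂ U), IsEig ρ ρ a x →
      IsEig ρ ρ a⁻¹ (J * x * J) := fun a x hx => by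
    by_cases hx0 : x = 0
    · subst hx0
      simpa using eig_zero ρ a⁻¹
    let A : lam0 ρ L := ⟨a, x, hx0, hx⟩
    obtain ⟨r, hr⟩ := eig_unique ρ (he A) (hne A) hx
    rw [hr, mul_smul_comm, smul_mul_assoc, hJJ]
    exact eig_smul ρ (he A⁻¹) r
  have htrJ : LinearMap.trace ℂ U J = c * (finrank ℂ U : ℂ) := by
    rw [hJdef, map_smul, map_sum, smul_eq_mul]
    congr 1
    rw [Finset.sum_congr rfl fun a _ => trace_sect he h1 a, Finset.sum_ite_eq' Finset.univ (1 : lam0 ρ L),
      if_pos (Finset.mem_univ _)]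
  have hgood : ∀ a, Good ρ L (LinearMap.trace ℂ U J) (u a * J) := fun b => by
    refine ⟨?_, fun l hl => (eig_comm ρ (he b) l hl).mul_right (hJc l hl), fun a x hx => ?_, ?_⟩
    · rw [show u b * J * (u b * J) = u b * (J * u b * J) by simp only [mul_assoc], hJJ,
        sect_mul_inv h1 hm]
    · have e : u b * J * x * (u b * J) = u b * (J * x * J) * u b⁻¹ := by
        rw [← hJJ b]
        simp only [mul_assoc]
        rw [← mul_assoc J J, hJsq, one_mul]
      rw [e]
      have h2 := eig_mul ρ (eig_mul ρ (he b) (hJflip a x hx)) (he b⁻¹)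
      rwa [show (b : Lam L) * a⁻¹ * ((b⁻¹ : lam0 ρ L) : Lam L) = a⁻¹ by
        rw [Subgroup.coe_inv, mul_comm (b : Lam L), mul_assoc, mul_inv_cancel, mul_one]] at h2
    · obtain ⟨n, hn⟩ := hG.odd
      set d : lam0 ρ L := b ^ (n + 1) with hd
      have hbd : d * d = b := by
        rw [hd, ← pow_add, show n + 1 + (n + 1) = Nat.card K + 1 by omega, pow_succ]
        have : b ^ Nat.card K = 1 := Subtype.ext (by
          rw [SubgroupClass.coe_pow, pow_card_eq_one_lam, OneMemClass.coe_one])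
        rw [this, one_mul]
      have e : u b = u d * u d := by rw [hm, gamma_self, one_smul, hbd]
      have hJd : u d * J = J * u d⁻¹ := by rw [hJu, inv_inv]
      rw [e, mul_assoc, hJd, LinearMap.trace_mul_comm, mul_assoc, sect_inv_mul h1 hm, mul_one]
  refine ⟨u, J, hne, he, hm, ?_, hgood, fun J' hJ' => ?_, fun a b r hab => ?_⟩
  · rw [htrJ]
    exact mul_ne_zero hc0 (finrank_ne_zero ρ)
  · obtain ⟨M, hMdef⟩ : ∃ M, M = J' * J := ⟨_, rfl⟩
    obtain ⟨m, hm'⟩ := sect_expand hG hne he M fun l hl => hMdef ▸ (hJ'.comm l hl).mul_right (hJc l hl)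
    have hsq' : J' * J' = 1 := hJ'.sq
    have hMne : M ≠ 0 := fun h => one_ne_zero_end ρ (by
      calc (1 : Module.End ℂ U) = J' * (J' * J) * J := by
            rw [← mul_assoc J', hsq', one_mul, hJsq]
        _ = 0 := by rw [← hMdef, h, mul_zero, zero_mul])
    have key : ∀ b : lam0 ρ L, ∃ r : ℂ, ∀ a, m a ≠ 0 → beta ρ (a : Lam L) (b : Lam L) = r := fun b => by
      have h2 := hJ'.flip _ _ (he b⁻¹)
      rw [Subgroup.coe_inv, inv_inv] at h2
      obtain ⟨r, hr⟩ := eig_unique ρ (he b) (hne b) h2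
      have h3 : M * u b = r • (u b * M) := by
        rw [hMdef, mul_assoc, hJu, ← mul_assoc, ← mul_assoc, ← smul_mul_assoc, ← smul_mul_assoc,
          ← hr, mul_assoc (J' * u b⁻¹) J' J', hsq', mul_one]
      have h4 : u b⁻¹ * (M * u b) = r • M := by
        rw [h3, mul_smul_comm, ← mul_assoc, sect_inv_mul h1 hm, one_mul]
      rw [hm', Finset.sum_mul, Finset.mul_sum, Finset.smul_sum, ← sub_eq_zero,
        ← Finset.sum_sub_distrib] at h4
      refine ⟨r, fun a ha => ?_⟩
      have h5 : ∑ a, (m a * (beta ρ (a : Lam L) (b : Lam L) - r)) • u a = 0 := by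
        refine Eq.trans (Finset.sum_congr rfl fun a _ => ?_) h4
        rw [smul_mul_assoc, beta_spec ρ (he a) (he b), mul_smul_comm, mul_smul_comm,
          ← mul_assoc, sect_inv_mul h1 hm, one_mul, smul_smul, smul_smul, ← sub_smul, mul_sub,
          mul_comm r]
      exact sub_eq_zero.1 ((mul_eq_zero.1 (coeff_eq_zero he h1 hm h5 a)).resolve_left ha)
    obtain ⟨a0, ha0⟩ : ∃ a, m a ≠ 0 := by
      by_contra h
      refine hMne (hm'.trans (Finset.sum_eq_zero fun a _ => ?_))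
      rw [not_exists_not.1 h a, zero_smul]
    have hsingle : ∀ a, a ≠ a0 → m a = 0 := fun a haa => by
      by_contra ha
      refine haa (mul_inv_eq_one.1 (sect_nondeg hG hne he (s := a * a0⁻¹) fun b => ?_))
      obtain ⟨r, hr⟩ := key b
      have h6 : beta ρ ((a0 : Lam L)⁻¹) (b : Lam L) * beta ρ (a0 : Lam L) (b : Lam L) = 1 := by
        rw [← beta_mul_left ρ (inv_mem a0.2) a0.2 b.2, inv_mul_cancel, ← pow_zero (a0 : Lam L),
          beta_pow_left ρ a0.2 b.2, pow_zero]
      rw [Subgroup.coe_mul, Subgroup.coe_inv, beta_mul_left ρ a.2 (inv_mem a0.2) b.2, hr a ha,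
        ← hr a0 ha0, mul_comm, h6]
    rw [Finset.sum_eq_single a0 (fun a _ h => by rw [hsingle a h, zero_smul])
      (fun h => absurd (Finset.mem_univ _) h)] at hm'
    have hJ'eq : J' = m a0 • (u a0 * J) := by
      rw [← smul_mul_assoc, ← hm', hMdef, mul_assoc, hJsq, mul_one]
    refine ⟨a0, ?_⟩
    have ht := hJ'.tr
    rw [hJ'eq, map_smul, smul_eq_mul, (hgood a0).tr] at ht
    have hm1 : m a0 = 1 := by
      refine mul_right_cancel₀ ?_ (ht.trans (one_mul _).symm)
      rw [htrJ]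
      exact mul_ne_zero hc0 (finrank_ne_zero ρ)
    rw [hJ'eq, hm1, one_smul]
  · have h2 : u a = r • u b := by
      have := congrArg (· * J) hab
      simpa [mul_assoc, hJsq, smul_mul_assoc] using this
    by_contra hne'
    have h3 := congrArg (fun x : Module.End ℂ U => LinearMap.trace ℂ U (x * u b⁻¹)) h2
    simp only [smul_mul_assoc, sect_mul_inv h1 hm, map_smul, trace_one_end, hm, trace_sect he h1,
      if_neg (fun h : a * b⁻¹ = 1 => hne' (mul_inv_eq_one.1 h)), smul_eq_mul, mul_zero] at h3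
    exact hne a (by rw [h2, (mul_eq_zero.1 h3.symm).resolve_right (finrank_ne_zero ρ), zero_smul])

end Cfsg.Agent.OddSection
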