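/-
A coprime group of automorphisms fixes exactly one of the involutions inverting the twists.
-/
import Cfsg.Agent.Lib.OddSection.Base
import Mathlib.Data.Nat.ModEq

set_option linter.unusedSectionVars false
set_option linter.style.haveILetI false

namespace Cfsg.Agent.OddSection

open Module Cfsg.Agent.Char

universe u v w

variable {K : Type u} [Group K] [Finite K] {U : Type v} [AddCommGroup U] [Module ℂ U]
  [FiniteDimensional ℂ U] (ρ : Representation ℂ K U) [ρ.IsIrreducible]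
  {L : Subgroup K} [L.Normal]

theorem span_range_eq_top : Submodule.span ℂ (Set.range ρ) = ⊤ := by
  haveI := nontrivial_of_irreducible ρ
  refine (HHLinear.span_eq_top_and_schur ρ fun W hW => ?_).1
  let s : Subrepresentation ρ := ⟨W, fun k v hv => hW k v hv⟩
  rcases eq_bot_or_eq_top s with h | h
  · exact Or.inl (congrArg Subrepresentation.toSubmodule h)
  · exact Or.inr (congrArg Subrepresentation.toSubmodule h)

/-- Every endomorphism is a combination of the group. -/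
theorem exists_coeff [Fintype K] (x : Module.End ℂ U) : ∃ j : K → ℂ, ∑ k, j k • ρ k = x :=
  (Submodule.mem_span_range_iff_exists_fun ℂ).1 (by rw [span_range_eq_top ρ]; exact Submodule.mem_top)

/-- An automorphism fixing the character acts on the endomorphisms. -/
theorem exists_algEquiv (α : MulAut K) (hα : ∀ k, ρ.character (α k) = ρ.character k) :
    ∃ Φ : Module.End ℂ U ≃ₐ[ℂ] Module.End ℂ U, (∀ k, Φ (ρ k) = ρ (α k)) ∧
      ∀ x, LinearMap.trace ℂ U (Φ x) = LinearMap.trace ℂ U x := by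
  let ρ' : Representation ℂ K U := ρ.comp α.toMonoidHom
  obtain ⟨e⟩ := nonempty_equiv_of_char_eq ρ ρ' (funext fun k => (hα k).symm)
  refine ⟨e.toLinearEquiv.conjAlgEquiv ℂ, fun k => LinearMap.ext fun x => ?_,
    fun x => LinearMap.trace_conj' x e.toLinearEquiv⟩
  rw [LinearEquiv.conjAlgEquiv_apply]
  show e.toLinearEquiv (ρ k (e.toLinearEquiv.symm x)) = ρ (α k) x
  refine (e.toIntertwiningMap.isIntertwining ρ ρ' k (e.toLinearEquiv.symm x)).trans ?_
  show ρ (α k) (e.toLinearEquiv (e.toLinearEquiv.symm x)) = _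
  rw [LinearEquiv.apply_symm_apply]

/-- The transported character. -/
def twist (α : MulAut K) (hα : ∀ k, α k ∈ L ↔ k ∈ L) (a : Lam L) : Lam L :=
  a.hom.comp (QuotientGroup.map L L α.symm.toMonoidHom fun k hk =>
    show α.symm k ∈ L by rwa [← hα, MulEquiv.apply_symm_apply])

theorem lv_twist (α : MulAut K) (hα : ∀ k, α k ∈ L ↔ k ∈ L) (a : Lam L) (k : K) :
    lv (twist α hα a) k = lv a (α.symm k) := rfl

theorem twist_mul (α : MulAut K) (hα : ∀ k, α k ∈ L ↔ k ∈ L) (a b : Lam L) :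
    twist α hα (a * b) = twist α hα a * twist α hα b :=
  lv_ext fun k => by simp only [lv_twist, lv_mul]

theorem twist_inv (α : MulAut K) (hα : ∀ k, α k ∈ L ↔ k ∈ L) (a : Lam L) :
    twist α hα a⁻¹ = (twist α hα a)⁻¹ :=
  lv_ext fun k => by simp only [lv_twist, lv_inv]

variable {ρ}

theorem eig_map (α : MulAut K) (hα : ∀ k, α k ∈ L ↔ k ∈ L)
    (Φ : Module.End ℂ U ≃ₐ[ℂ] Module.End ℂ U) (hΦ : ∀ k, Φ (ρ k) = ρ (α k)) {a : Lam L}
    {x : Module.End ℂ U} (hx : IsEig ρ ρ a x) : IsEig ρ ρ (twist α hα a) (Φ x) := fun k => by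
  show ρ k * Φ x = lv (twist α hα a) k • (Φ x * ρ k)
  have h1 : ρ (α.symm k) * x = lv a (α.symm k) • (x * ρ (α.symm k)) := hx _
  have h2 := congrArg Φ h1
  rw [map_mul, map_smul, map_mul, hΦ, MulEquiv.apply_symm_apply] at h2
  exact h2

theorem good_map {τ : ℂ} {J : Module.End ℂ U} (hJ : Good ρ L τ J) (α : MulAut K)
    (hα : ∀ k, α k ∈ L ↔ k ∈ L) (Φ : Module.End ℂ U ≃ₐ[ℂ] Module.End ℂ U)
    (hΦ : ∀ k, Φ (ρ k) = ρ (α k)) (htr : ∀ x, LinearMap.trace ℂ U (Φ x) = LinearMap.trace ℂ U x) :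
    Good ρ L τ (Φ J) := by
  refine ⟨by rw [← map_mul, hJ.sq, map_one], fun l hl => ?_, fun a x hx => ?_, by rw [htr, hJ.tr]⟩
  · have h := (hJ.comm (α.symm l) (by rwa [← hα, MulEquiv.apply_symm_apply])).map Φ
    rwa [hΦ, MulEquiv.apply_symm_apply] at h
  · have hα' : ∀ k, α.symm k ∈ L ↔ k ∈ L := fun k => by
      rw [← hα, MulEquiv.apply_symm_apply]
    have hy := eig_map α.symm hα' Φ.symm (fun k => by
      rw [AlgEquiv.symm_apply_eq, hΦ, MulEquiv.apply_symm_apply]) hx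
    have h := eig_map α hα Φ hΦ (hJ.flip _ _ hy)
    rw [map_mul, map_mul, AlgEquiv.apply_symm_apply, twist_inv] at h
    rwa [show twist α hα (twist α.symm hα' a) = a from lv_ext fun k => by
      simp only [lv_twist, MulEquiv.symm_symm, MulEquiv.apply_symm_apply]] at h

variable (ρ)

/-- The involution fixed by a coprime group of automorphisms. -/
theorem exists_fixed [Fintype K] (hG : Graded ρ L) {S : Type w} [Group S] [Finite S]
    (σ : S →* MulAut K) (hL : ∀ s, ∀ l ∈ L, σ s l ∈ L)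
    (hθ : ∀ s k, ρ.character (σ s k) = ρ.character k)
    (hcop : (Nat.card S).Coprime (Nat.card K))
    (hfix : ∀ a : Lam L, (∀ s k, lv a (σ s k) = lv a k) → a = 1) :
    ∃ J : Module.End ℂ U, J * J = 1 ∧ (∀ l ∈ L, Commute (ρ l) J) ∧
      (∀ (a : Lam L) (x : Module.End ℂ U), IsEig ρ ρ a x → IsEig ρ ρ a⁻¹ (J * x * J)) ∧
      LinearMap.trace ℂ U J ≠ 0 ∧
      ∀ α : MulAut K, (∀ k, α k ∈ L ↔ k ∈ L) → (∀ k, ρ.character (α k) = ρ.character k) →
        (∀ s k, α (σ s k) = σ s (α k)) →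
        ∀ j : K → ℂ, ∑ k, j k • ρ k = J → ∑ k, j k • ρ (α k) = J := by
  classical
  haveI : Fintype S := Fintype.ofFinite S
  obtain ⟨u, J, hne, he, hm, htr, hgood, huniq, hinj⟩ := exists_base ρ hG
  have hσL : ∀ s k, σ s k ∈ L ↔ k ∈ L := fun s k => ⟨fun h => by
    simpa using hL s⁻¹ _ h, hL s k⟩
  choose Φ hΦ hΦtr using fun s => exists_algEquiv ρ (σ s) (hθ s)
  have hcomp : ∀ r s x, Φ r (Φ s x) = Φ (r * s) x := fun r s x => by
    have h : (Φ r).toLinearMap ∘ₗ (Φ s).toLinearMap = (Φ (r * s)).toLinearMap :=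
      LinearMap.ext_on_range (span_range_eq_top ρ) fun k => by
        show Φ r (Φ s (ρ k)) = Φ (r * s) (ρ k)
        rw [hΦ, hΦ, hΦ, map_mul]
        rfl
    exact LinearMap.congr_fun h x
  choose t ht using fun b s => huniq _ (good_map (hgood b) (σ s) (hσL s) (Φ s) (hΦ s) (hΦtr s))
  have hkey : ∀ b s, (t b s : Lam L) = twist (σ s) (hσL s) (b : Lam L) * t 1 s := fun b s => by
    have hu1 : u 1 * u b = gamma ρ 1 b • u b := by rw [hm, one_mul]
    have h1 : ∀ w : lam0 ρ L, twist (σ s) (hσL s) (w : Lam L) ∈ lam0 ρ L := fun w =>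
      ⟨Φ s (u w), fun h => hne w ((Φ s).injective (by rw [h, map_zero])),
        eig_map (σ s) (hσL s) (Φ s) (hΦ s) (he w)⟩
    obtain ⟨c, hc⟩ := eig_unique ρ (he ⟨_, h1 b⟩) (hne _)
      (eig_map (σ s) (hσL s) (Φ s) (hΦ s) (he b))
    obtain ⟨d, hd⟩ := eig_unique ρ (he 1) (hne 1)
      (show IsEig ρ ρ ((1 : lam0 ρ L) : Lam L) (1 : Module.End ℂ U) from eig_one ρ)
    have hJ1 : J = d • (u 1 * J) := by rw [← smul_mul_assoc, ← hd, one_mul]
    have h2 : Φ s (u b * J) =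
        (c * d * gamma ρ ⟨_, h1 b⟩ (t 1 s)) • (u (⟨_, h1 b⟩ * t 1 s) * J) := by
      rw [map_mul, hc]
      conv_lhs => rw [hJ1, map_smul, ht, smul_mul_smul_comm, ← mul_assoc, hm, smul_mul_assoc,
        smul_smul]
    rw [ht] at h2
    exact congrArg Subtype.val (hinj _ _ _ h2)
  let T : S → Lam L := fun s => (t 1 s : Lam L)
  have hcoc : ∀ r s, T (r * s) = twist (σ r) (hσL r) (T s) * T r := fun r s => by
    have h := hcomp r s (u 1 * J)
    rw [ht, ht, ht] at h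
    rw [show T (r * s) = ((t 1 (r * s) : lam0 ρ L) : Lam L) from rfl,
      ← hinj _ _ 1 (h.trans (one_smul ℂ _).symm)]
    exact hkey (t 1 s) r
  obtain ⟨E, hE0, hE1⟩ := Nat.chineseRemainder hcop 0 1
  obtain ⟨e, rfl⟩ : Nat.card S ∣ E := Nat.modEq_zero_iff_dvd.1 hE0
  let tw : S → Lam L →* Lam L := fun r => MonoidHom.mk' (twist (σ r) (hσL r)) (twist_mul _ _)
  set A : Lam L := (∏ s, T s) ^ e with hA
  have hAfix : ∀ r, twist (σ r) (hσL r) A * T r = A := fun r => by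
    show tw r A * T r = A
    have h1 : ∀ s, tw r (T s) = T (r * s) * (T r)⁻¹ := fun s => by
      rw [hcoc, mul_inv_cancel_right]
      rfl
    rw [hA, map_pow, map_prod, Finset.prod_congr rfl fun s _ => h1 s, Finset.prod_mul_distrib,
      Finset.prod_const, Finset.card_univ, Fintype.prod_equiv (Equiv.mulLeft r) (fun s => T (r * s))
      T (fun s => rfl), mul_pow, ← pow_mul, ← Nat.card_eq_fintype_card]
    have h2 : (T r)⁻¹ ^ (Nat.card S * e) = (T r)⁻¹ := by
      rw [pow_eq_pow_mod _ (pow_card_eq_one_lam (T r)⁻¹), hE1,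
        ← pow_eq_pow_mod _ (pow_card_eq_one_lam (T r)⁻¹), pow_one]
    rw [h2, inv_mul_cancel_right]
  have hAmem : A ∈ lam0 ρ L := pow_mem (Subgroup.prod_mem _ fun s _ => (t 1 s).2) e
  have hfx : ∀ r, Φ r (u ⟨A, hAmem⟩ * J) = u ⟨A, hAmem⟩ * J := fun r => by
    rw [ht, show t ⟨A, hAmem⟩ r = (⟨A, hAmem⟩ : lam0 ρ L) from
      Subtype.ext ((hkey _ r).trans (hAfix r))]
  refine ⟨u ⟨A, hAmem⟩ * J, (hgood _).sq, (hgood _).comm, (hgood _).flip,
    by rw [(hgood _).tr]; exact htr, fun α hαL hαθ hαc j hj => ?_⟩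
  obtain ⟨Ψ, hΨ, hΨtr⟩ := exists_algEquiv ρ α hαθ
  have hsum : ∑ k, j k • ρ (α k) = Ψ (u ⟨A, hAmem⟩ * J) := by
    rw [← hj, map_sum]
    exact Finset.sum_congr rfl fun k _ => by rw [map_smul, hΨ]
  rw [hsum]
  obtain ⟨b, hb⟩ := huniq _ (good_map (hgood ⟨A, hAmem⟩) α hαL Ψ hΨ hΨtr)
  have hbfix : ∀ r, t b r = b := fun r => by
    refine hinj _ _ 1 ?_
    rw [one_smul, ← ht b r, ← hb]
    have h : (Φ r).toLinearMap ∘ₗ Ψ.toLinearMap = Ψ.toLinearMap ∘ₗ (Φ r).toLinearMap :=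
      LinearMap.ext_on_range (span_range_eq_top ρ) fun k => by
        show Φ r (Ψ (ρ k)) = Ψ (Φ r (ρ k))
        rw [hΨ, hΦ, hΦ, hΨ, hαc]
    exact (LinearMap.congr_fun h _).trans (congrArg Ψ (hfx r))
  have hdiff : ((b : Lam L) * A⁻¹) = 1 := hfix _ fun s k => by
    have h1 : tw s (b : Lam L) * T s = b := ((hkey b s).symm.trans (congrArg Subtype.val (hbfix s)))
    have h2 : tw s A * T s = A := hAfix s
    have h3 : tw s ((b : Lam L) * A⁻¹) = (b : Lam L) * A⁻¹ := by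
      rw [map_mul, map_inv, eq_mul_inv_of_mul_eq h1, eq_mul_inv_of_mul_eq h2, mul_inv_rev,
        inv_inv, mul_assoc, inv_mul_cancel_left]
    have h4 := congrArg (fun a => lv a (σ s k)) h3
    rw [show lv (tw s ((b : Lam L) * A⁻¹)) (σ s k) =
      lv ((b : Lam L) * A⁻¹) ((σ s).symm (σ s k)) from rfl, MulEquiv.symm_apply_apply] at h4
    exact h4.symm
  rw [hb, show b = (⟨A, hAmem⟩ : lam0 ρ L) from Subtype.ext (mul_inv_eq_one.1 hdiff)]

end Cfsg.Agent.OddSection
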