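/-
The signed multiplicity character on the small group attached to the fixed involution, and its
inner products.
-/
import Cfsg.Agent.Lib.OddSection.Fixed

set_option linter.unusedSectionVars false
set_option linter.style.haveILetI false

namespace Cfsg.Agent.OddSection

open Module Cfsg.Agent.Char
open scoped ComplexConjugate

universe u v w w'

variable {G : Type u} [Group G] [Fintype G] {K : Subgroup G} [K.Normal] [Fintype K]
  {U : Type v} [AddCommGroup U] [Module ℂ U] [FiniteDimensional ℂ U]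
  {ρ : Representation ℂ K U} [ρ.IsIrreducible] {L H : Subgroup G} [L.Normal] [Fintype H]

/-- The conjugation automorphisms of `K`. -/
abbrev conjK (g : G) : MulAut K := MulAut.conjNormal g

variable (ρ L H) in
/-- An involution inverting the twists and fixed by `H`. -/
structure Pivot where
  J : Module.End ℂ U
  j : K → ℂ
  j_eq : ∑ k, j k • ρ k = J
  sq : J * J = 1
  flip : ∀ (a : Lam (L.subgroupOf K)) (x : Module.End ℂ U), IsEig ρ ρ a x →
    IsEig ρ ρ a⁻¹ (J * x * J)
  fixH : ∀ h ∈ H, ∑ k, j k • ρ (conjK h k) = J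

/-- The signed multiplicity function. -/
def Pivot.delta (P : Pivot ρ L H) (χ : G → ℂ) : H → ℂ :=
  fun h => ∑ k : K, P.j k * χ ((h : G) * (k : G))

variable {V : Type w} [AddCommGroup V] [Module ℂ V] [FiniteDimensional ℂ V]
  {V' : Type w'} [AddCommGroup V'] [Module ℂ V'] [FiniteDimensional ℂ V']
  {σ : Representation ℂ G V} {σ' : Representation ℂ G V'} {m m' : ℕ}
  (P : Pivot ρ L H) (c : Copies ρ (σ.comp K.subtype) m) (c' : Copies ρ (σ'.comp K.subtype) m')

theorem lift_J : c.lift P.J = ∑ k : K, P.j k • σ (k : G) := by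
  rw [← P.j_eq, map_sum]
  exact Finset.sum_congr rfl fun k _ => by rw [map_smul, c.lift_rho]; rfl

theorem commute_lift {h : G} (hh : h ∈ H) : σ h * c.lift P.J = c.lift P.J * σ h := by
  have h1 : c.lift P.J = σ h * c.lift P.J * σ h⁻¹ := by
    conv_lhs => rw [← P.fixH h hh, map_sum]
    rw [lift_J P c, Finset.mul_sum, Finset.sum_mul]
    refine Finset.sum_congr rfl fun k _ => ?_
    rw [map_smul, c.lift_rho, mul_smul_comm, smul_mul_assoc, ← map_mul, ← map_mul]
    rfl
  conv_rhs => rw [h1, mul_assoc, ← map_mul, inv_mul_cancel, map_one, mul_one]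

theorem lift_sq : c.lift P.J * c.lift P.J = 1 := by rw [← c.lift_mul, P.sq, c.lift_one]

theorem delta_eq (h : H) :
    P.delta σ.character h = LinearMap.trace ℂ V (σ h * c.lift P.J) := by
  rw [lift_J P c, Finset.mul_sum, map_sum]
  refine Finset.sum_congr rfl fun k _ => ?_
  rw [mul_smul_comm, map_smul, ← map_mul, smul_eq_mul]
  rfl

include c in
/-- `(χ + δ)/2` and `(χ - δ)/2` are characters. -/
theorem delta_split :
    ∃ A B : H → ℂ, Cfsg.IsCharacter H A ∧ Cfsg.IsCharacter H B ∧
      (fun h : H => σ.character h) = A + B ∧ P.delta σ.character = A - B := by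
  set M := c.lift P.J with hM
  have hsq : M * M = 1 := lift_sq P c
  let p : ℂ → Module.End ℂ V := fun e => (1 / 2 : ℂ) • ((1 : Module.End ℂ V) + e • M)
  have hp : ∀ e : ℂ, e * e = 1 → p e * p e = p e := fun e he => by
    simp only [p, smul_mul_smul_comm, add_mul, mul_add, one_mul, mul_one, hsq, he, one_smul]
    module
  have hc : ∀ (e : ℂ) (h : H), (σ.comp H.subtype) h * p e = p e * (σ.comp H.subtype) h := fun e h => by
    show σ (h : G) * p e = p e * σ (h : G)
    simp only [p, mul_smul_comm, smul_mul_assoc, mul_add, add_mul, one_mul, mul_one,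
      hM, commute_lift P c h.2]
  refine ⟨_, _, isCharacter_of_idem (σ.comp H.subtype) (p 1) (hp 1 (one_mul 1)) (hc 1),
    isCharacter_of_idem (σ.comp H.subtype) (p (-1)) (hp (-1) (by norm_num)) (hc (-1)),
    funext fun h => ?_, funext fun h => ?_⟩
  · show LinearMap.trace ℂ V (σ h) = LinearMap.trace ℂ V (σ h * p 1) + LinearMap.trace ℂ V (σ h * p (-1))
    rw [← map_add, ← mul_add, show p 1 + p (-1) = 1 by simp only [p]; module, mul_one]
  · show P.delta σ.character h =
      LinearMap.trace ℂ V (σ h * p 1) - LinearMap.trace ℂ V (σ h * p (-1))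
    rw [← map_sub, ← mul_sub, show p 1 - p (-1) = M by simp only [p]; module, delta_eq P c]

theorem Copies.eig_compose {a : Lam (L.subgroupOf K)} {x : Module.End ℂ U} (hx : IsEig ρ ρ a x)
    (i : Fin m') (j : Fin m) :
    IsEig (σ.comp K.subtype) (σ'.comp K.subtype) a (c'.inj i ∘ₗ x ∘ₗ c.proj j) := fun k => by
  refine LinearMap.ext fun v => ?_
  have h1 := LinearMap.congr_fun (c'.inj_comm i k) (x (c.proj j v))
  have h2 := LinearMap.congr_fun (hx k) (c.proj j v)
  have h3 := LinearMap.congr_fun (c.proj_comm j k) v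
  simp only [LinearMap.comp_apply, LinearMap.smul_apply] at h1 h2 h3 ⊢
  rw [h1, h2, map_smul, h3]

theorem sandwich_comp (X : V →ₗ[ℂ] V') (i : Fin m') (j : Fin m) :
    c'.proj i ∘ₗ (c'.lift P.J ∘ₗ X ∘ₗ c.lift P.J) ∘ₗ c.inj j =
      P.J * (c'.proj i ∘ₗ X ∘ₗ c.inj j) * P.J := by
  refine LinearMap.ext fun x => ?_
  have h1 := LinearMap.congr_fun (c'.proj_lift P.J i) (X (c.lift P.J (c.inj j x)))
  have h2 := LinearMap.congr_fun (c.lift_inj P.J j) x
  simp only [LinearMap.comp_apply, Module.End.mul_apply] at h1 h2 ⊢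
  rw [h1, h2]

theorem flip_eig {a : Lam (L.subgroupOf K)} {X : V →ₗ[ℂ] V'}
    (hX : IsEig (σ.comp K.subtype) (σ'.comp K.subtype) a X) :
    IsEig (σ.comp K.subtype) (σ'.comp K.subtype) a⁻¹ (c'.lift P.J ∘ₗ X ∘ₗ c.lift P.J) := by
  rw [c.eq_sum_comp c' (c'.lift P.J ∘ₗ X ∘ₗ c.lift P.J)]
  refine isEig_sum _ _ _ fun i _ => isEig_sum _ _ _ fun j _ => Copies.eig_compose c c' ?_ i j
  rw [sandwich_comp P c c']
  exact P.flip _ _ fun k => c.comp_comm c' X (hX k) i j

theorem flip_fixed {X : V →ₗ[ℂ] V'}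
    (hX : IsEig (σ.comp K.subtype) (σ'.comp K.subtype) (1 : Lam (L.subgroupOf K)) X) :
    c'.lift P.J ∘ₗ X ∘ₗ c.lift P.J = X := by
  rw [c.eq_sum_comp c' (c'.lift P.J ∘ₗ X ∘ₗ c.lift P.J)]
  conv_rhs => rw [c.eq_sum_comp c' X]
  refine Finset.sum_congr rfl fun i _ => Finset.sum_congr rfl fun j _ => ?_
  rw [sandwich_comp P c c']
  obtain ⟨r, hr⟩ := eig_scalar ρ (L := L.subgroupOf K) (x := c'.proj i ∘ₗ X ∘ₗ c.inj j)
    fun k => c.comp_comm c' X (hX k) i j
  rw [hr, mul_smul_comm, mul_one, smul_mul_assoc, P.sq]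

theorem twist_ne (hodd : Odd (Nat.card G)) (h : G) {a : Lam (L.subgroupOf K)}
    (ha : ∀ k : K, lv a (conjK h⁻¹ k) = (lv a k)⁻¹) : a = 1 := by
  obtain ⟨n, hn⟩ := hodd
  have h2 : ∀ (i : ℕ) (k : K), lv a (conjK ((h⁻¹ * h⁻¹) ^ i) k) = lv a k := fun i => by
    induction i with
    | zero => intro k; simp [conjK]
    | succ i ih =>
      intro k
      rw [pow_succ]
      simp only [conjK, map_mul, MulAut.mul_apply] at ih ha ⊢
      rw [ih, ha, ha, inv_inv]
  have hpow : (h⁻¹ * h⁻¹) ^ (n + 1) = h⁻¹ := by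
    rw [← sq, ← pow_mul, show 2 * (n + 1) = Nat.card G + 1 by omega, pow_succ, pow_card_eq_one',
      one_mul]
  refine lv_ext fun k => ?_
  have h3 := h2 (n + 1) k
  rw [hpow, ha] at h3
  have h4 : lv a k * lv a k = 1 := by
    conv_lhs => arg 1; rw [← h3]
    exact inv_mul_cancel₀ (lv_ne_zero a k)
  have h5 : lv a k ^ Nat.card K = 1 := by
    have := congrArg (fun b => lv b k) (pow_card_eq_one_lam a)
    have hp : ∀ i : ℕ, lv (a ^ i) k = lv a k ^ i := fun i => by
      induction i with
      | zero => rw [pow_zero, pow_zero, lv_one]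
      | succ i ih => rw [pow_succ, pow_succ, lv_mul, ih]
    simpa [hp] using this
  obtain ⟨q, hq⟩ : Odd (Nat.card K) :=
    Odd.of_dvd_nat ⟨n, hn⟩ (Subgroup.card_subgroup_dvd_card K)
  rw [hq, pow_succ, pow_mul, sq, h4, one_pow, one_mul] at h5
  rw [h5, lv_one]

include c c' in
/-- The signed functions have the inner products of the characters. -/
theorem inner_delta (hLK : L ≤ K) (hLH : L ≤ H) (hgen : K ⊔ H = ⊤)
    (hab : ∀ a b : K ⧸ L.subgroupOf K, a * b = b * a) (hodd : Odd (Nat.card G)) :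
    Cfsg.classInner (P.delta σ'.character) (P.delta σ.character) =
      Cfsg.classInner σ'.character σ.character := by
  classical
  haveI : Fintype (Lam (L.subgroupOf K)) := Fintype.ofFinite _
  haveI : Fintype (L.subgroupOf K) := Fintype.ofFinite _
  let cG := Representation.linHom σ σ'
  let cK := Representation.linHom (σ.comp K.subtype) (σ'.comp K.subtype)
  let T : (V →ₗ[ℂ] V') →ₗ[ℂ] (V →ₗ[ℂ] V') :=
    { toFun := fun X => c'.lift P.J ∘ₗ X ∘ₗ c.lift P.J
      map_add' := fun X Y => by simp only [LinearMap.add_comp, LinearMap.comp_add]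
      map_smul' := fun r X => by simp only [LinearMap.smul_comp, LinearMap.comp_smul,
        RingHom.id_apply] }
  let EH : (V →ₗ[ℂ] V') →ₗ[ℂ] (V →ₗ[ℂ] V') := (Nat.card H : ℂ)⁻¹ • ∑ h : H, cG (h : G)
  have hEH : ∀ w, EH w = (Nat.card H : ℂ)⁻¹ • ∑ h : H, cG (h : G) w := fun w => by
    simp [EH, LinearMap.sum_apply]
  -- conjugate of delta
  obtain ⟨A, B, hA, hB, -, hδ⟩ := delta_split P c
  have hconj : ∀ h, conj (P.delta σ.character h) = P.delta σ.character h⁻¹ := fun h => by
    rw [hδ, Pi.sub_apply, Pi.sub_apply, map_sub, IsCharacter.inv hA, IsCharacter.inv hB]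
  have hterm : ∀ h : H, P.delta σ'.character h * conj (P.delta σ.character h) =
      LinearMap.trace ℂ _ (cG (h : G) * T) := fun h => by
    rw [hconj, delta_eq P c, delta_eq P c', LinearMap.trace_mul_comm ℂ (σ ((h⁻¹ : H) : G)),
      mul_comm]
    refine (trace_sandwich (σ' (h : G) * c'.lift P.J) (c.lift P.J * σ ((h⁻¹ : H) : G))
      (cG (h : G) * T) fun X => ?_).symm
    refine LinearMap.ext fun x => ?_
    rfl
  have hinner : Cfsg.classInner (P.delta σ'.character) (P.delta σ.character) =
      LinearMap.trace ℂ _ (EH * T) := by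
    rw [Cfsg.classInner, Finset.sum_congr rfl fun h _ => hterm h, ← map_sum, ← Finset.sum_mul,
      show (EH * T) = (Nat.card H : ℂ)⁻¹ • ((∑ h : H, cG (h : G)) * T) from smul_mul_assoc _ _ _,
      map_smul, smul_eq_mul]
  -- averaging over `L` first
  have hEHl : ∀ l : L.subgroupOf K, ∀ w, EH (cK (l : K) w) = EH w := fun l w => by
    rw [hEH, hEH]
    congr 1
    refine Fintype.sum_equiv (Equiv.mulRight (⟨((l : K) : G), hLH (Subgroup.mem_subgroupOf.1 l.2)⟩ : H))
      _ _ fun h => ?_
    show cG (h : G) (cG ((l : K) : G) w) = cG ((h : G) * ((l : K) : G)) w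
    rw [map_mul]
    rfl
  have hsplit : EH * T = ∑ a : Lam (L.subgroupOf K), EH * pr cK a * T := by
    refine LinearMap.ext fun w => ?_
    simp only [LinearMap.sum_apply, Module.End.mul_apply]
    rw [← map_sum EH, sum_pr cK hab, map_smul, map_sum, Finset.sum_congr rfl fun l _ => hEHl l _,
      Finset.sum_const, Finset.card_univ, ← Nat.cast_smul_eq_nsmul ℂ, smul_smul,
      ← Nat.card_eq_fintype_card, inv_mul_cancel₀ (Nat.cast_ne_zero.2 Nat.card_pos.ne'), one_smul]
  have hzero : ∀ a : Lam (L.subgroupOf K), a ≠ 1 →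
      LinearMap.trace ℂ _ (EH * pr cK a * T) = 0 := fun a ha => by
    simp only [EH, smul_mul_assoc, map_smul, Finset.sum_mul, map_sum]
    rw [Finset.sum_eq_zero fun h _ => ?_, smul_zero]
    have hidem : pr cK a = pr cK a * pr cK a := LinearMap.ext fun w => (pr_pr cK a w).symm
    rw [hidem, show cG (h : G) * (pr cK a * pr cK a) * T = (cG (h : G) * pr cK a) * (pr cK a * T) by
      simp only [mul_assoc], LinearMap.trace_mul_comm]
    suffices hz : pr cK a * T * (cG (h : G) * pr cK a) = 0 by rw [hz, map_zero]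
    refine LinearMap.ext fun w => ?_
    simp only [Module.End.mul_apply, LinearMap.zero_apply]
    have hα : ∀ k, conjK (h : G) k ∈ L.subgroupOf K ↔ k ∈ L.subgroupOf K := fun k => by
      rw [Subgroup.mem_subgroupOf, Subgroup.mem_subgroupOf, MulAut.conjNormal_apply]
      exact ⟨fun hk => by simpa [mul_assoc] using ‹L.Normal›.conj_mem _ hk (h : G)⁻¹,
        fun hk => ‹L.Normal›.conj_mem _ hk _⟩
    have hY : IsEig (σ.comp K.subtype) (σ'.comp K.subtype) (twist (conjK (h : G)) hα a)
        (cG (h : G) (pr cK a w)) := (isEig_iff _ _).2 fun k => by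
      have h1 : cK ((conjK (h : G)).symm k) (pr cK a w) =
          lv a ((conjK (h : G)).symm k) • pr cK a w := apply_pr cK a _ _
      show cG (k : G) (cG (h : G) (pr cK a w)) = _
      rw [lv_twist, ← map_smul (cG (h : G)), ← h1]
      show (cG (k : G) * cG (h : G)) _ = (cG (h : G) * cG (((conjK (h : G)).symm k : K) : G)) _
      rw [← map_mul, ← map_mul]
      refine congrArg (fun g => cG g (pr cK a w)) ?_
      simp [conjK, mul_assoc]
    refine pr_of_eig_ne cK ((isEig_iff _ _).1 (flip_eig P c c' hY)) fun he => ha ?_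
    refine twist_ne hodd (h : G) fun k => ?_
    have h2 : lv (twist (conjK (h : G)) hα a)⁻¹ k = lv a k := by rw [he]
    rw [lv_inv, lv_twist] at h2
    rw [← h2, inv_inv]
    exact congrArg (lv a) (Subtype.ext (by simp [conjK]))
  have hone : LinearMap.trace ℂ _ (EH * T) =
      LinearMap.trace ℂ _ (EH * pr cK (1 : Lam (L.subgroupOf K)) * T) := by
    rw [hsplit, map_sum]
    exact Finset.sum_eq_single _ (fun a _ ha => hzero a ha)
      fun h => absurd (Finset.mem_univ _) h
  set Q1 := EH * pr cK (1 : Lam (L.subgroupOf K)) with hQ1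
  have hproj : LinearMap.IsProj (Representation.invariants cG) Q1 := by
    refine ⟨fun w g => ?_, fun w hw => ?_⟩
    · have hK1 : ∀ k : K, cG (k : G) (pr cK (1 : Lam (L.subgroupOf K)) w) = pr cK 1 w := fun k => by
        have := apply_pr cK (1 : Lam (L.subgroupOf K)) k w
        rwa [lv_one, one_smul] at this
      let Z : Subgroup G :=
        { carrier := {g | cG g (Q1 w) = Q1 w}
          one_mem' := by simp
          mul_mem' := fun {a b} ha hb => by
            show cG (a * b) _ = _
            rw [map_mul, Module.End.mul_apply, hb, ha]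
          inv_mem' := fun {a} ha => by
            show cG a⁻¹ _ = _
            conv_lhs => rw [show Q1 w = cG a (Q1 w) from ha.symm]
            rw [← Module.End.mul_apply, ← map_mul, inv_mul_cancel, map_one, Module.End.one_apply] }
      suffices hZ : K ⊔ H ≤ Z from (show g ∈ Z from hZ (by rw [hgen]; exact Subgroup.mem_top g))
      refine sup_le (fun k hk => ?_) fun h0 hh0 => ?_
      · show cG k (EH (pr cK 1 w)) = EH (pr cK 1 w)
        rw [hEH, map_smul, map_sum]
        congr 1
        refine Finset.sum_congr rfl fun h _ => ?_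
        conv_rhs => rw [← hK1 ((conjK (h : G)).symm ⟨k, hk⟩)]
        show (cG k * cG (h : G)) _ =
          (cG (h : G) * cG (((conjK (h : G)).symm (⟨k, hk⟩ : K) : K) : G)) _
        rw [← map_mul, ← map_mul]
        refine congrArg (fun g => cG g (pr cK 1 w)) ?_
        simp [conjK, mul_assoc]
      · show cG h0 (EH (pr cK 1 w)) = EH (pr cK 1 w)
        rw [hEH, map_smul, map_sum]
        congr 1
        exact Fintype.sum_equiv (Equiv.mulLeft (⟨h0, hh0⟩ : H)) _ _ fun h => by
          rw [← Module.End.mul_apply, ← map_mul]; rfl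
    · show EH (pr cK 1 w) = w
      rw [pr_of_eig cK (a := (1 : Lam (L.subgroupOf K))) fun k => by
        rw [lv_one, one_smul]; exact hw (k : G), hEH, Finset.sum_congr rfl fun (h : H) _ => hw (h : G),
        Finset.sum_const, Finset.card_univ, ← Nat.cast_smul_eq_nsmul ℂ, smul_smul,
        ← Nat.card_eq_fintype_card, inv_mul_cancel₀ (Nat.cast_ne_zero.2 Nat.card_pos.ne'), one_smul]
  have hTQ : T * Q1 = Q1 := LinearMap.ext fun w => flip_fixed P c c' ((isEig_iff _ _).2 fun k => by
    rw [lv_one, one_smul]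
    exact hproj.map_mem w (k : G))
  rw [hinner, hone, LinearMap.trace_mul_comm, hTQ, hproj.trace, classInner_char σ σ',
    (Representation.invariantsEquivIntertwiningMap σ σ').finrank_eq]

end Cfsg.Agent.OddSection
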