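/-
The correspondence above a fixed invariant character of the section, given a pivot.
-/
import Cfsg.Agent.Lib.OddSection.Delta

set_option linter.unusedSectionVars false
set_option linter.style.haveILetI false

namespace Cfsg.Agent.OddSection

open Module Cfsg.Agent.Char
open scoped ComplexConjugate

universe u v

variable {G : Type u} [Group G] [Fintype G] {K : Subgroup G} [K.Normal] [Fintype K]
  {U : Type v} [AddCommGroup U] [Module ℂ U] [FiniteDimensional ℂ U]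
  {ρ : Representation ℂ K U} [ρ.IsIrreducible] {L H : Subgroup G} [L.Normal] [Fintype H]
  (P : Pivot ρ L H)

/-- `χ` restricts to `K` as a multiple of the character of `ρ`. -/
def OverRho (ρ : Representation ℂ K U) (χ : G → ℂ) : Prop :=
  ∃ m : ℕ, ∀ k : K, χ (k : G) = (m : ℂ) * ρ.character k

/-- Multiplicity and signed multiplicity have the same parity. -/
theorem parity {χ : G → ℂ} (hχ : Cfsg.IsIrrCharacter G χ) (hm : OverRho ρ χ) :
    Cfsg.IsClassFunction H (P.delta χ) ∧ ∃ (m : Cfsg.IrrCharacter H → ℕ) (d : Cfsg.IrrCharacter H → ℤ),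
      ∀ ψ : Cfsg.IrrCharacter H, Cfsg.classInner (fun h : H => χ h) (ψ : H → ℂ) = (m ψ : ℂ) ∧
        Cfsg.classInner (P.delta χ) (ψ : H → ℂ) = (d ψ : ℂ) ∧ (Odd (m ψ) ↔ Odd (d ψ)) := by
  obtain ⟨n, σ, hσ, rfl⟩ := hχ
  obtain ⟨m, hm⟩ := hm
  obtain ⟨c⟩ := Copies.exists_of_char ρ (σ.comp K.subtype) m fun k => hm k
  obtain ⟨A, B, hA, hB, h1, h2⟩ := delta_split P c
  choose a ha using fun ψ : Cfsg.IrrCharacter H =>
    IsCharacter.exists_classInner_nat hA (IsIrrCharacter.isCharacter ψ.2)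
  choose b hb using fun ψ : Cfsg.IrrCharacter H =>
    IsCharacter.exists_classInner_nat hB (IsIrrCharacter.isCharacter ψ.2)
  refine ⟨h2 ▸ IsClassFunction.sub (IsCharacter.isClassFunction hA) (IsCharacter.isClassFunction hB),
    fun ψ => a ψ + b ψ, fun ψ => (a ψ : ℤ) - b ψ, fun ψ => ⟨?_, ?_, ?_⟩⟩
  · rw [h1, classInner_add_left, ha, hb, Nat.cast_add]
  · rw [h2, classInner_sub_left, ha, hb]
    push_cast
    ring
  · rw [← Int.odd_coe_nat, Nat.cast_add, Int.odd_add, Int.odd_sub]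

theorem inner_delta_irr (hLK : L ≤ K) (hLH : L ≤ H) (hgen : K ⊔ H = ⊤)
    (hab : ∀ a b : K ⧸ L.subgroupOf K, a * b = b * a) (hodd : Odd (Nat.card G)) {χ χ' : G → ℂ}
    (hχ : Cfsg.IsIrrCharacter G χ) (hm : OverRho ρ χ) (hχ' : Cfsg.IsIrrCharacter G χ')
    (hm' : OverRho ρ χ') :
    Cfsg.classInner (P.delta χ') (P.delta χ) = Cfsg.classInner χ' χ := by
  obtain ⟨n, σ, hσ, rfl⟩ := hχ
  obtain ⟨n', σ', hσ', rfl⟩ := hχ'
  obtain ⟨m, hm⟩ := hm
  obtain ⟨m', hm'⟩ := hm'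
  obtain ⟨c⟩ := Copies.exists_of_char ρ (σ.comp K.subtype) m fun k => hm k
  obtain ⟨c'⟩ := Copies.exists_of_char ρ (σ'.comp K.subtype) m' fun k => hm' k
  exact inner_delta P c c' hLK hLH hgen hab hodd

theorem sum_sq_eq_one (hLK : L ≤ K) (hLH : L ≤ H) (hgen : K ⊔ H = ⊤)
    (hab : ∀ a b : K ⧸ L.subgroupOf K, a * b = b * a) (hodd : Odd (Nat.card G))
    {χ : G → ℂ} (hχ : Cfsg.IsIrrCharacter G χ) (hm : OverRho ρ χ)
    {d : Cfsg.IrrCharacter H → ℤ}
    (hd : ∀ ψ : Cfsg.IrrCharacter H, Cfsg.classInner (P.delta χ) (ψ : H → ℂ) = (d ψ : ℂ)) :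
    P.delta χ = ∑ ψ : Cfsg.IrrCharacter H, (d ψ : ℂ) • (ψ : H → ℂ) ∧ ∑ ψ, d ψ * d ψ = 1 := by
  obtain ⟨hcl, -⟩ := parity P hχ hm
  have hexp : P.delta χ = ∑ ψ : Cfsg.IrrCharacter H, (d ψ : ℂ) • (ψ : H → ℂ) := by
    conv_lhs => rw [classFunction_eq_sum hcl]
    exact Finset.sum_congr rfl fun ψ _ => by rw [hd]
  refine ⟨hexp, ?_⟩
  have h1 := inner_delta_irr P hLK hLH hgen hab hodd hχ hm hχ hm
  rw [classInner_self_irr hχ, hexp, classInner_combination₂] at h1
  simp only [map_intCast] at h1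
  exact_mod_cast h1

include P in
/-- The correspondence above `ρ`: existence, uniqueness, and injectivity. -/
theorem core (hLK : L ≤ K) (hLH : L ≤ H) (hgen : K ⊔ H = ⊤)
    (hab : ∀ a b : K ⧸ L.subgroupOf K, a * b = b * a) (hodd : Odd (Nat.card G))
    {χ : G → ℂ} (hχ : Cfsg.IsIrrCharacter G χ) (hm : OverRho ρ χ) :
    (∃! ψ : Cfsg.IrrCharacter H, ∃ m : ℕ,
      Cfsg.classInner (fun h : H => χ h) (ψ : H → ℂ) = (m : ℂ) ∧ Odd m) ∧
    (∀ χ' : G → ℂ, Cfsg.IsIrrCharacter G χ' → OverRho ρ χ' → ∀ ψ : Cfsg.IrrCharacter H,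
      (∃ m : ℕ, Cfsg.classInner (fun h : H => χ h) (ψ : H → ℂ) = (m : ℂ) ∧ Odd m) →
      (∃ m : ℕ, Cfsg.classInner (fun h : H => χ' h) (ψ : H → ℂ) = (m : ℂ) ∧ Odd m) → χ = χ') := by
  classical
  obtain ⟨hcl, m, d, hmd⟩ := parity P hχ hm
  obtain ⟨hexp, h1'⟩ := sum_sq_eq_one P hLK hLH hgen hab hodd hχ hm fun ψ => (hmd ψ).2.1
  obtain ⟨ψ0, hψ0⟩ : ∃ ψ, d ψ ≠ 0 := by
    by_contra hc
    push Not at hc
    simp [hc] at h1'
  have key := Finset.add_sum_erase Finset.univ (fun ψ => d ψ * d ψ) (Finset.mem_univ ψ0)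
  have hrest : 0 ≤ ∑ x ∈ Finset.univ.erase ψ0, d x * d x :=
    Finset.sum_nonneg fun x _ => mul_self_nonneg _
  have hpos : 0 < d ψ0 * d ψ0 := mul_self_pos.2 hψ0
  have hsq : d ψ0 * d ψ0 = 1 := by omega
  have hzero : ∀ ψ, ψ ≠ ψ0 → d ψ = 0 := fun ψ hne => mul_self_eq_zero.1
    ((Finset.sum_eq_zero_iff_of_nonneg fun x _ => mul_self_nonneg (d x)).1 (by omega) ψ
      (Finset.mem_erase.2 ⟨hne, Finset.mem_univ _⟩))
  have hoddd : Odd (d ψ0) := (Int.odd_mul.1 (hsq.symm ▸ odd_one)).1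
  have huniq : ∀ ψ : Cfsg.IrrCharacter H,
      (∃ n : ℕ, Cfsg.classInner (fun h : H => χ h) (ψ : H → ℂ) = (n : ℂ) ∧ Odd n) → ψ = ψ0 := by
    rintro ψ ⟨n, hn, hno⟩
    by_contra hne
    rw [(hmd ψ).1, Nat.cast_inj] at hn
    have := (hmd ψ).2.2.1 (hn ▸ hno)
    rw [hzero ψ hne] at this
    simp at this
  refine ⟨⟨ψ0, ⟨m ψ0, (hmd ψ0).1, (hmd ψ0).2.2.2 hoddd⟩, huniq⟩, ?_⟩
  rintro χ' hχ' hm' ψ hψ ⟨n', hn', hno'⟩
  obtain rfl := huniq ψ hψ
  obtain ⟨hcl', m', d', hmd'⟩ := parity P hχ' hm'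
  have hd' : d' ψ ≠ 0 := fun h => by
    rw [(hmd' ψ).1, Nat.cast_inj] at hn'
    have := (hmd' ψ).2.2.1 (hn' ▸ hno')
    rw [h] at this
    simp at this
  by_contra hne
  have h2 := inner_delta_irr P hLK hLH hgen hab hodd hχ hm hχ' hm'
  rw [classInner_irr_of_ne hχ' hχ (Ne.symm hne), hexp, classFunction_eq_sum hcl',
    classInner_combination₂, Finset.sum_eq_single ψ
      (fun x _ hx => by rw [hzero x hx, Int.cast_zero, map_zero, mul_zero])
      (fun h => absurd (Finset.mem_univ _) h), (hmd' ψ).2.1, map_intCast, mul_eq_zero,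
    Int.cast_eq_zero, Int.cast_eq_zero] at h2
  exact h2.elim hd' hψ0

include P in
/-- Every character of `H` over the bottom character is reached. -/
theorem core_surjective (hLK : L ≤ K) (hLH : L ≤ H) (hgen : K ⊔ H = ⊤)
    (hab : ∀ a b : K ⧸ L.subgroupOf K, a * b = b * a) (hodd : Odd (Nat.card G))
    (hHK : ∀ h ∈ H, h ∈ K → h ∈ L) [Fintype L]
    {a : ℂ} (ha : a ≠ 0) {η : L → ℂ}
    (hinv : ∀ (g : G) (k : K), ρ.character (conjK g k) = ρ.character k)
    (htr : ∀ l : L, LinearMap.trace ℂ U (ρ ⟨l, hLK l.2⟩ * P.J) = a * η l)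
    (ψ : Cfsg.IrrCharacter H)
    (hψ : Cfsg.classInner η (fun l : L => (ψ : H → ℂ) ⟨l, hLH l.2⟩) ≠ 0)
    (hover : ∀ χ : Cfsg.IrrCharacter G,
      Cfsg.classInner (fun k : K => (χ : G → ℂ) k) ρ.character ≠ 0 → OverRho ρ (χ : G → ℂ)) :
    ∃ χ : Cfsg.IrrCharacter G, OverRho ρ (χ : G → ℂ) ∧
      ∃ m : ℕ, Cfsg.classInner (fun h : H => (χ : G → ℂ) h) (ψ : H → ℂ) = (m : ℂ) ∧ Odd m := by
  classical
  by_contra hcon
  push Not at hcon
  have hθirr := isIrrCharacter_of_rep ρ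
  have hind := isCharacter_indFun K (IsIrrCharacter.isCharacter hθirr)
  let e : Cfsg.IrrCharacter G → ℂ := fun χ =>
    Cfsg.classInner (Cfsg.indFun K ρ.character) (χ : G → ℂ)
  have hzero : ∀ χ : Cfsg.IrrCharacter G,
      e χ * Cfsg.classInner (P.delta (χ : G → ℂ)) (ψ : H → ℂ) = 0 := fun χ => by
    by_cases he : e χ = 0
    · rw [he, zero_mul]
    have hne : Cfsg.classInner (fun k : K => (χ : G → ℂ) k) ρ.character ≠ 0 := by
      rw [← classInner_conj_symm]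
      refine fun h => he ?_
      show Cfsg.classInner (Cfsg.indFun K ρ.character) (χ : G → ℂ) = 0
      rw [classInner_indFun_left K _ (IsCharacter.isClassFunction (IsIrrCharacter.isCharacter χ.2))]
      simpa using h
    obtain ⟨-, m, d, hmd⟩ := parity P χ.2 (hover χ hne)
    obtain ⟨hm1, hd1, hiff⟩ := hmd ψ
    have hnodd : ¬ Odd (d ψ) := fun h => hcon χ (hover χ hne) _ hm1 (hiff.2 h)
    obtain ⟨hcl, -⟩ := parity P χ.2 (hover χ hne)
    suffices hd0 : d ψ = 0 by rw [hd1, hd0, Int.cast_zero, mul_zero]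
    by_contra hd0
    -- the norm of the signed function is one, so a nonzero value is odd
    obtain ⟨-, hh⟩ := sum_sq_eq_one P hLK hLH hgen hab hodd χ.2 (hover χ hne)
      fun x => (hmd x).2.1
    exact hnodd (by
      have h1 := Finset.single_le_sum (f := fun x => d x * d x) (fun x _ => mul_self_nonneg _)
        (Finset.mem_univ ψ)
      rw [hh] at h1
      have h2 : 0 < d ψ * d ψ := mul_self_pos.2 hd0
      have h3 : d ψ * d ψ = 1 := le_antisymm h1 h2
      exact (Int.odd_mul.1 (h3.symm ▸ odd_one)).1)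
  have hval : ∀ h : H, ∑ χ : Cfsg.IrrCharacter G, e χ * P.delta (χ : G → ℂ) h =
      ∑ k : K, P.j k * Cfsg.indFun K ρ.character ((h : G) * (k : G)) := fun h => by
    simp only [Pivot.delta, Finset.mul_sum]
    rw [Finset.sum_comm]
    refine Finset.sum_congr rfl fun k _ => ?_
    conv_rhs => rw [IsCharacter.eq_sum hind, Finset.sum_apply]
    rw [Finset.mul_sum]
    exact Finset.sum_congr rfl fun χ _ => by
      simp only [e, Pi.smul_apply, smul_eq_mul]
      ring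
  have hidx : ∀ k : K, Cfsg.indFun K ρ.character (k : G) = (K.index : ℂ) * ρ.character k := fun k => by
    rw [indFun_normal_apply]
    have hc : ∀ x : G, conjChar K x ρ.character k = ρ.character k := fun x => by
      rw [← hinv x k]
      exact congrArg ρ.character (Subtype.ext (by simp [conjK]))
    rw [Finset.sum_congr rfl fun x _ => hc x, Finset.sum_const, Finset.card_univ, nsmul_eq_mul,
      ← Nat.card_eq_fintype_card, ← Subgroup.card_mul_index K, Nat.cast_mul]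
    have : (Nat.card K : ℂ) ≠ 0 := Nat.cast_ne_zero.2 Nat.card_pos.ne'
    field_simp
  have hf : ∀ h : H, ∑ k : K, P.j k * Cfsg.indFun K ρ.character ((h : G) * (k : G)) =
      if hl : (h : G) ∈ L then (K.index : ℂ) * (a * η ⟨h, hl⟩) else 0 := fun h => by
    split_ifs with hl
    · rw [← htr ⟨h, hl⟩, ← P.j_eq, Finset.mul_sum, map_sum, Finset.mul_sum]
      refine Finset.sum_congr rfl fun k _ => ?_
      have hk : (h : G) * (k : G) = ((⟨(h : G), hLK hl⟩ * k : K) : G) := rfl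
      rw [hk, hidx, mul_smul_comm, map_smul, ← map_mul, smul_eq_mul]
      show P.j k * ((K.index : ℂ) * ρ.character (⟨(h : G), hLK hl⟩ * k)) = _
      rw [mul_left_comm]
      rfl
    · refine Finset.sum_eq_zero fun k _ => ?_
      rw [indFun_eq_zero_of_not_mem K _ fun hk => hl (hHK h h.2 ?_), mul_zero]
      have := K.mul_mem hk (K.inv_mem k.2)
      rwa [mul_inv_cancel_right] at this
  have hsum : ∑ h : H, (∑ χ : Cfsg.IrrCharacter G, e χ * P.delta (χ : G → ℂ) h) *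
      conj ((ψ : H → ℂ) h) = 0 := by
    have h0 : ∑ χ : Cfsg.IrrCharacter G,
        e χ * ∑ h : H, P.delta (χ : G → ℂ) h * conj ((ψ : H → ℂ) h) = 0 := by
      refine Finset.sum_eq_zero fun χ _ => ?_
      have := hzero χ
      rw [Cfsg.classInner, mul_left_comm, mul_eq_zero] at this
      exact this.resolve_left (inv_ne_zero (Nat.cast_ne_zero.2 Nat.card_pos.ne'))
    rw [← h0]
    simp only [Finset.mul_sum, Finset.sum_mul, mul_assoc]
    exact Finset.sum_comm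
  rw [Finset.sum_congr rfl fun h _ => by rw [hval, hf]] at hsum
  apply hψ
  rw [Cfsg.classInner]
  let ι : L → H := fun l => ⟨l, hLH l.2⟩
  have hsub : ∑ h : H, (if hl : (h : G) ∈ L then (K.index : ℂ) * (a * η ⟨h, hl⟩) else 0) *
      conj ((ψ : H → ℂ) h) = ((K.index : ℂ) * a) * ∑ l : L, η l * conj ((ψ : H → ℂ) (ι l)) := by
    rw [Finset.mul_sum, ← Finset.sum_filter_of_ne (p := fun h : H => (h : G) ∈ L) fun h _ hne => by
      by_contra hl
      rw [dif_neg hl, zero_mul] at hne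
      exact hne rfl]
    refine Finset.sum_bij' (fun h hh => (⟨(h : G), (Finset.mem_filter.1 hh).2⟩ : L))
      (fun l _ => ι l) (fun _ _ => Finset.mem_univ _)
      (fun l _ => Finset.mem_filter.2 ⟨Finset.mem_univ _, l.2⟩) (fun h _ => rfl) (fun l _ => rfl)
      fun h hh => ?_
    rw [dif_pos (Finset.mem_filter.1 hh).2]
    show _ = ((K.index : ℂ) * a) * (η _ * conj ((ψ : H → ℂ) h))
    ring
  rw [hsub, mul_eq_zero, mul_eq_zero] at hsum
  rw [hsum.resolve_left (not_or.2 ⟨Nat.cast_ne_zero.2 K.index_ne_zero_of_finite, ha⟩), mul_zero]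

end Cfsg.Agent.OddSection
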