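/-
The correspondence above an invariant character of the bottom of the section.
-/
import Cfsg.Agent.Lib.OddSection.Core

set_option linter.unusedSectionVars false
set_option linter.style.haveILetI false

namespace Cfsg.Agent.OddSection

open Module Cfsg.Agent.Char
open Cfsg.Agent.GlaubermanMod (IsInv)
open Cfsg.Agent.RelGlauberman (IsInvQ)

universe u v

variable {G : Type u} [Group G] [Fintype G] {S : Type v} [Group S] [Finite S] (φ : S →* MulAut G)

/-- An abelian section of odd order with coprime operators and no fixed points. -/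
structure Setting (K L H : Subgroup G) : Prop where
  odd : Odd (Nat.card G)
  cop : (Nat.card S).Coprime (Nat.card G)
  solv : Group.IsSolvable G
  K_normal : K.Normal
  L_normal : L.Normal
  LK : L ≤ K
  K_inv : ∀ s, ∀ k ∈ K, φ s k ∈ K
  L_inv : ∀ s, ∀ l ∈ L, φ s l ∈ L
  comm : ∀ a ∈ K, ∀ b ∈ K, a * b * a⁻¹ * b⁻¹ ∈ L
  fix : ∀ k ∈ K, (∀ s, φ s k * k⁻¹ ∈ L) → k ∈ L
  gen : ∀ g : G, ∃ k ∈ K, ∃ c, (∀ s, φ s c = c) ∧ g = k * c
  memH : ∀ g, g ∈ H ↔ ∃ l ∈ L, ∃ c, (∀ s, φ s c = c) ∧ g = l * c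

/-- A constituent of a constituent is a constituent. -/
theorem constituent_trans {A : Type u} [Group A] [Fintype A] {B : Type u} [Group B] [Fintype B]
    (ι : B →* A) {α : A → ℂ} (hα : Cfsg.IsCharacter A α) {τ : A → ℂ}
    (hτ : Cfsg.IsIrrCharacter A τ) (h1 : Cfsg.classInner α τ ≠ 0) {β : B → ℂ}
    (hβ : Cfsg.IsCharacter B β) (h2 : Cfsg.classInner (fun b => τ (ι b)) β ≠ 0) :
    Cfsg.classInner (fun b => α (ι b)) β ≠ 0 := by
  classical
  obtain ⟨m, hm⟩ := IsCharacter.exists_decomp hα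
  choose k hk using fun χ : Cfsg.IrrCharacter A =>
    IsCharacter.exists_classInner_nat (IsCharacter.comp (IsIrrCharacter.isCharacter χ.2) ι) hβ
  have hkτ : k ⟨τ, hτ⟩ ≠ 0 := fun h => h2 ((hk ⟨τ, hτ⟩).trans (by rw [h, Nat.cast_zero]))
  have hmτ : m ⟨τ, hτ⟩ ≠ 0 := fun h => h1 (by
    rw [hm, show τ = ((⟨τ, hτ⟩ : Cfsg.IrrCharacter A) : A → ℂ) from rfl, classInner_combination, h,
      Nat.cast_zero])
  have e : (fun b => α (ι b)) = ∑ χ, (m χ : ℂ) • fun b => (χ : A → ℂ) (ι b) := by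
    funext b
    have := congrFun hm (ι b)
    simp only [Finset.sum_apply, Pi.smul_apply] at this ⊢
    exact this
  rw [e, classInner_sum_left, Finset.sum_congr rfl fun χ _ => by rw [classInner_smul_left, hk χ]]
  rw [← Nat.cast_zero]
  simp only [← Nat.cast_mul, ← Nat.cast_sum]
  rw [Ne, Nat.cast_inj]
  intro h0
  exact Nat.mul_ne_zero hmτ hkτ (Finset.sum_eq_zero_iff.1 h0 ⟨τ, hτ⟩ (Finset.mem_univ _))

namespace Setting

variable {φ} {K L H : Subgroup G}

theorem L_le_H (St : Setting φ K L H) : L ≤ H := fun l hl =>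
  (St.memH l).2 ⟨l, hl, 1, fun s => map_one _, (mul_one l).symm⟩

theorem K_inf_H (St : Setting φ K L H) {h : G} (hH : h ∈ H) (hK : h ∈ K) : h ∈ L := by
  obtain ⟨l, hl, c, hc, rfl⟩ := (St.memH h).1 hH
  have hcK : c ∈ K := by
    have := K.mul_mem (K.inv_mem (St.LK hl)) hK
    rwa [inv_mul_cancel_left] at this
  exact L.mul_mem hl (St.fix c hcK fun s => by rw [hc s, mul_inv_cancel]; exact L.one_mem)

theorem K_sup_H (St : Setting φ K L H) : K ⊔ H = ⊤ := eq_top_iff.2 fun g _ => by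
  obtain ⟨k, hk, c, hc, rfl⟩ := St.gen g
  exact Subgroup.mul_mem_sup hk ((St.memH c).2 ⟨1, L.one_mem, c, hc, (one_mul c).symm⟩)

theorem H_inv (St : Setting φ K L H) (s : S) {h : G} (hh : h ∈ H) : φ s h ∈ H := by
  obtain ⟨l, hl, c, hc, rfl⟩ := (St.memH h).1 hh
  exact (St.memH _).2 ⟨φ s l, St.L_inv s l hl, c, hc, by rw [map_mul, hc s]⟩

theorem quot_comm (St : Setting φ K L H) [L.Normal] :
    ∀ a b : K ⧸ L.subgroupOf K, a * b = b * a := fun a b => by
  obtain ⟨a, rfl⟩ := QuotientGroup.mk_surjective a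
  obtain ⟨b, rfl⟩ := QuotientGroup.mk_surjective b
  rw [← QuotientGroup.mk_mul, ← QuotientGroup.mk_mul, QuotientGroup.eq, Subgroup.mem_subgroupOf]
  have := St.comm _ (K.inv_mem b.2) _ (K.inv_mem a.2)
  simpa [mul_assoc] using this

/-- A homomorphism on the section is trivial where the operators fix its value. -/
theorem hom_eq_one (St : Setting φ K L H) [L.Normal] {A : Type*} [CommGroup A]
    (f : K ⧸ L.subgroupOf K →* A) (k : K)
    (hf : ∀ s, f (CoprimeConst.actSub φ K St.K_inv s k : K) = f (k : K)) : f (k : K) = 1 := by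
  classical
  haveI : Fintype S := Fintype.ofFinite S
  letI : CommGroup (K ⧸ L.subgroupOf K) :=
    { (inferInstance : Group (K ⧸ L.subgroupOf K)) with mul_comm := St.quot_comm }
  have hQ : ∀ s, ∀ q ∈ L.subgroupOf K, CoprimeConst.actSub φ K St.K_inv s q ∈ L.subgroupOf K :=
    fun s q hq => Subgroup.mem_subgroupOf.2 (St.L_inv s _ (Subgroup.mem_subgroupOf.1 hq))
  let β := CoprimeConst.actQuot (CoprimeConst.actSub φ K St.K_inv) (L.subgroupOf K) hQ
  obtain ⟨p, hp⟩ := QuotientGroup.mk_surjective (∏ s, β s (k : K ⧸ L.subgroupOf K))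
  have hfix : ∀ r, β r (p : K ⧸ L.subgroupOf K) = p := fun r => by
    rw [hp, map_prod]
    exact Fintype.prod_equiv (Equiv.mulLeft r) _ _ fun s => by
      rw [Equiv.coe_mulLeft, map_mul]; rfl
  have hpL : p ∈ L.subgroupOf K := Subgroup.mem_subgroupOf.2 (St.fix _ p.2 fun s => by
    have h1 : ((CoprimeConst.actSub φ K St.K_inv s p : K) : K ⧸ L.subgroupOf K) = p := hfix s
    rw [QuotientGroup.eq_iff_div_mem, Subgroup.mem_subgroupOf, div_eq_mul_inv] at h1
    exact h1)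
  have hprod : ∏ s, f (β s (k : K ⧸ L.subgroupOf K)) = 1 := by
    rw [← map_prod, ← hp, (QuotientGroup.eq_one_iff p).2 hpL, map_one]
  rw [Finset.prod_congr rfl fun s _ => show f (β s (k : K ⧸ L.subgroupOf K)) = f (k : K) from hf s,
    Finset.prod_const, Finset.card_univ, ← Nat.card_eq_fintype_card] at hprod
  have hN : f (k : K) ^ Nat.card K = 1 := by
    rw [← map_pow, ← QuotientGroup.mk_pow, pow_card_eq_one', QuotientGroup.mk_one, map_one]
  have hg : (Nat.card S).gcd (Nat.card K) = 1 :=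
    Nat.Coprime.coprime_dvd_right (Subgroup.card_subgroup_dvd_card K) St.cop
  have := pow_gcd_eq_one.2 ⟨hprod, hN⟩
  rwa [hg, pow_one] at this

/-- A linear character of the section is trivial where the operators fix its value. -/
theorem lv_eq_one (St : Setting φ K L H) [L.Normal] (f : Lam (L.subgroupOf K)) (k : K)
    (hf : ∀ s, lv f (CoprimeConst.actSub φ K St.K_inv s k) = lv f k) : lv f k = 1 :=
  (congrArg Units.val (St.hom_eq_one f.hom k fun s => Units.ext (hf s))).trans Units.val_one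

/-- An invariant character lies over `η`. -/
def Over (hLK : L ≤ K) [Fintype K] [Fintype L] (η : L → ℂ) (f : K → ℂ) : Prop :=
  Cfsg.classInner (fun l : L => f ⟨l, hLK l.2⟩) η ≠ 0

theorem inner_subgroupOf [Fintype K] [Fintype L] [Fintype (L.subgroupOf K)] (hLK : L ≤ K)
    (η : L → ℂ) (f : K → ℂ) :
    Cfsg.classInner (fun l : L => f ⟨l, hLK l.2⟩) η =
      Cfsg.classInner (fun q : L.subgroupOf K => f q)
        (fun q => η (Subgroup.subgroupOfEquivOfLe hLK q)) :=
  CoprimeConst.classInner_subgroupOf K L hLK f η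

theorem subgroupOf_conj_eta [L.Normal] (hLK : L ≤ K) {η : L → ℂ}
    (hG : ∀ (g : G) (l : L), η (conjHom L g l) = η l) (g : K) :
    conjChar (L.subgroupOf K) g (fun q => η (Subgroup.subgroupOfEquivOfLe hLK q)) =
      fun q => η (Subgroup.subgroupOfEquivOfLe hLK q) := funext fun q => by
  rw [← hG (g : G) (Subgroup.subgroupOfEquivOfLe hLK q)]
  exact congrArg η (Subtype.ext rfl)

variable [Fintype K] [Fintype L]

/-- The invariant character of the middle group over `η`. -/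
theorem exists_theta (St : Setting φ K L H) [K.Normal] [L.Normal] {η : L → ℂ}
    (hη : Cfsg.IsIrrCharacter L η) (hS : IsInvQ St.L_inv η)
    (hG : ∀ (g : G) (l : L), η (conjHom L g l) = η l) :
    ∃ θ : K → ℂ, Cfsg.IsIrrCharacter K θ ∧ IsInvQ St.K_inv θ ∧ Over St.LK η θ ∧
      (∀ (g : G) (k : K), θ (conjK g k) = θ k) ∧
      ∀ θ' : K → ℂ, Cfsg.IsIrrCharacter K θ' → IsInvQ St.K_inv θ' → Over St.LK η θ' → θ' = θ := by
  classical
  haveI : Fintype (L.subgroupOf K) := Fintype.ofFinite _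
  let eqv := Subgroup.subgroupOfEquivOfLe St.LK
  have hη' : Cfsg.IsIrrCharacter (L.subgroupOf K) (fun q => η (eqv q)) :=
    IsIrrCharacter.comp hη eqv.toMonoidHom eqv.surjective
  have hQ : ∀ s, ∀ q ∈ L.subgroupOf K, CoprimeConst.actSub φ K St.K_inv s q ∈ L.subgroupOf K :=
    fun s q hq => Subgroup.mem_subgroupOf.2 (St.L_inv s _ (Subgroup.mem_subgroupOf.1 hq))
  obtain ⟨θ, hθinv, hθ⟩ := CoprimeConst.exists_inv_over_abelian hQ St.quot_comm
    (St.cop.coprime_dvd_right ((Subgroup.index_dvd_card _).trans (Subgroup.card_subgroup_dvd_card K)))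
    ⟨_, hη'⟩ (fun s q => (congrArg η (Subtype.ext rfl)).trans (hS s (eqv q)))
  have hθover : Over St.LK η (θ : K → ℂ) := by
    rw [Over, inner_subgroupOf St.LK]
    exact hθ
  have huniq : ∀ θ' : K → ℂ, Cfsg.IsIrrCharacter K θ' → IsInvQ St.K_inv θ' →
      Over St.LK η θ' → θ' = θ := fun θ' hirr hinv hov => by
    rw [Over, inner_subgroupOf St.LK] at hov
    obtain ⟨f, hf⟩ := CoprimeConst.exists_linear_mul (L.subgroupOf K) St.quot_comm θ ⟨θ', hirr⟩
      (θ := ⟨_, hη'⟩) hθ hov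
    funext k
    rw [← show (f (k : K ⧸ L.subgroupOf K) : ℂ) * (θ : K → ℂ) k = θ' k from hf k]
    by_cases hk : (θ : K → ℂ) k = 0
    · rw [hk, mul_zero]
    refine (congrArg (· * (θ : K → ℂ) k)
      (St.lv_eq_one (f : Lam (L.subgroupOf K)) k fun s => ?_)).trans (one_mul _)
    refine mul_right_cancel₀ hk ?_
    have h1 : (f ((CoprimeConst.actSub φ K St.K_inv s k : K) : K ⧸ L.subgroupOf K) : ℂ) *
        (θ : K → ℂ) (CoprimeConst.actSub φ K St.K_inv s k) =
        θ' (CoprimeConst.actSub φ K St.K_inv s k) := hf _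
    rw [hθinv s k, show θ' (CoprimeConst.actSub φ K St.K_inv s k) = θ' k from hinv s k,
      ← show (f (k : K ⧸ L.subgroupOf K) : ℂ) * (θ : K → ℂ) k = θ' k from hf k] at h1
    exact h1
  refine ⟨θ, θ.2, hθinv, hθover, fun g k => ?_, huniq⟩
  obtain ⟨k0, hk0, c, hc, rfl⟩ := St.gen g
  have h1 : conjChar K c (θ : K → ℂ) = θ := by
    refine huniq _ (isIrrCharacter_conjChar K θ.2 c) (fun s q => ?_) ?_
    · show (θ : K → ℂ) _ = (θ : K → ℂ) _
      refine Eq.trans (congrArg (θ : K → ℂ) (Subtype.ext ?_))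
        (hθinv s ⟨c * q * c⁻¹, ‹K.Normal›.conj_mem _ q.2 c⟩)
      show c * φ s (q : G) * c⁻¹ = φ s (c * (q : G) * c⁻¹)
      rw [map_mul, map_mul, map_inv, hc s]
    · intro h
      apply hθover
      have e := classInner_conjChar L (fun l : L => (θ : K → ℂ) ⟨l, St.LK l.2⟩) η c
      rw [show conjChar L c η = η from funext fun l => hG c l] at e
      exact e.symm.trans h
  have h2 := congrFun (conjChar_of_mem K
    (IsCharacter.isClassFunction (IsIrrCharacter.isCharacter θ.2)) hk0) (conjK c k)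
  refine Eq.trans ?_ (h2.trans ?_)
  · refine congrArg (θ : K → ℂ) (Subtype.ext ?_)
    simp [conjK, mul_assoc]
  · exact (congrArg (θ : K → ℂ) (Subtype.ext (by simp [conjK]))).trans (congrFun h1 k)

/-- The pivot of the invariant character. -/
theorem exists_pivot (St : Setting φ K L H) [K.Normal] [L.Normal] [Fintype H] {η : L → ℂ}
    (hη : Cfsg.IsIrrCharacter L η) (hG : ∀ (g : G) (l : L), η (conjHom L g l) = η l) {n : ℕ}
    (ρ : Representation ℂ K (Fin n → ℂ)) [ρ.IsIrreducible]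
    (hinv : IsInvQ St.K_inv ρ.character)
    (hconj : ∀ (g : G) (k : K), ρ.character (conjK g k) = ρ.character k)
    (hover : Over St.LK η ρ.character) :
    ∃ (P : Pivot ρ L H) (a : ℂ), a ≠ 0 ∧
      ∀ l : L, LinearMap.trace ℂ (Fin n → ℂ) (ρ ⟨l, St.LK l.2⟩ * P.J) = a * η l := by
  classical
  haveI : Fintype (L.subgroupOf K) := Fintype.ofFinite _
  let eqv := Subgroup.subgroupOfEquivOfLe St.LK
  have hη' : Cfsg.IsIrrCharacter (L.subgroupOf K) (fun q => η (eqv q)) :=
    IsIrrCharacter.comp hη eqv.toMonoidHom eqv.surjective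
  obtain ⟨e, he⟩ := IsCharacter.exists_classInner_nat
    (IsCharacter.restrict (isCharacter_of_rep ρ) (L.subgroupOf K)) (IsIrrCharacter.isCharacter hη')
  have hχirr := isIrrCharacter_of_rep ρ
  rw [Over, inner_subgroupOf St.LK] at hover
  have hres : ∀ q : L.subgroupOf K, ρ.character q = (e : ℂ) * η (eqv q) := by
    have h := clifford (L.subgroupOf K) hχirr hη' hover
    rw [he, show conjOrbit (L.subgroupOf K) (fun q => η (eqv q)) = {fun q => η (eqv q)} from by
      ext f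
      rw [mem_conjOrbit, Finset.mem_singleton]
      exact ⟨fun ⟨g, hg⟩ => hg.trans (subgroupOf_conj_eta St.LK hG g),
        fun hf => ⟨1, hf.trans (conjChar_one _ _).symm⟩⟩, Finset.sum_singleton] at h
    exact fun q => congrFun h q
  obtain ⟨d, ρW, hρW, hW⟩ := hη'
  obtain ⟨cW⟩ := Copies.exists_of_char ρW (ρ.comp (L.subgroupOf K).subtype) e fun q => by
    rw [hW]
    exact hres q
  have hGr : Graded ρ (L.subgroupOf K) :=
    ⟨Odd.of_dvd_nat St.odd (Subgroup.card_subgroup_dvd_card K), St.quot_comm, fun z hz hc =>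
      cW.center_scalar z (fun q => hz q q.2) fun x hx => hc x fun l hl => hx ⟨l, hl⟩⟩
  obtain ⟨J, hsq, hcomm, hflip, htr, hfixJ⟩ := exists_fixed ρ hGr
    (CoprimeConst.actSub φ K St.K_inv)
    (fun s l hl => Subgroup.mem_subgroupOf.2 (St.L_inv s _ (Subgroup.mem_subgroupOf.1 hl)))
    (fun s k => hinv s k) (St.cop.coprime_dvd_right (Subgroup.card_subgroup_dvd_card K))
    (fun f hf => lv_ext fun k => by rw [St.lv_eq_one f k fun s => hf s k, lv_one])
  obtain ⟨j, hj⟩ := exists_coeff ρ J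
  have hconjH : ∀ h ∈ H, ∑ k, j k • ρ (conjK h k) = J := fun h hh => by
    obtain ⟨l, hl, c, hc, rfl⟩ := (St.memH h).1 hh
    have h1 : ∑ k, j k • ρ (conjK c k) = J := by
      refine hfixJ (conjK c) (fun k => ?_) (hconj c) (fun s k => ?_) j hj
      · rw [Subgroup.mem_subgroupOf, Subgroup.mem_subgroupOf, MulAut.conjNormal_apply]
        exact ⟨fun hk => by simpa [mul_assoc] using ‹L.Normal›.conj_mem _ hk c⁻¹,
          fun hk => ‹L.Normal›.conj_mem _ hk _⟩
      · refine Subtype.ext ?_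
        show ((conjK c (CoprimeConst.actSub φ K St.K_inv s k) : K) : G) = φ s ((conjK c k : K) : G)
        rw [MulAut.conjNormal_apply, MulAut.conjNormal_apply, map_mul, map_mul, map_inv, hc s]
        rfl
    let lK : K := ⟨l, St.LK hl⟩
    have h2 : ∀ k, ρ (conjK (l * c) k) = ρ lK * ρ (conjK c k) * ρ lK⁻¹ := fun k => by
      rw [← map_mul, ← map_mul]
      exact congrArg ρ (Subtype.ext (by simp [conjK, lK, mul_assoc]))
    rw [Finset.sum_congr rfl fun k _ => by
      rw [h2, ← smul_mul_assoc, ← mul_smul_comm], ← Finset.sum_mul, ← Finset.mul_sum, h1,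
      (hcomm lK (Subgroup.mem_subgroupOf.2 hl)).eq, mul_assoc, ← map_mul, mul_inv_cancel, map_one,
      mul_one]
  obtain ⟨a, ha⟩ := cW.trace_mul_comm_map J fun q => hcomm q q.2
  have ha' : ∀ l : L, LinearMap.trace ℂ (Fin n → ℂ) (ρ ⟨l, St.LK l.2⟩ * J) = a * η l := fun l => by
    refine (ha (eqv.symm l)).trans ?_
    rw [hW]
    exact congrArg (fun x => a * η x) (eqv.apply_symm_apply l)
  refine ⟨⟨J, j, hj, hsq, hflip, hconjH⟩, a, fun h0 => htr ?_, ha'⟩
  have h1 := ha' 1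
  rw [h0, zero_mul] at h1
  rw [← h1, show (⟨((1 : L) : G), St.LK (1 : L).2⟩ : K) = 1 from rfl, map_one, one_mul]

/-- The correspondence above an invariant `η`. -/
theorem invariant (St : Setting φ K L H) [K.Normal] [L.Normal] [Fintype H] {η : L → ℂ}
    (hη : Cfsg.IsIrrCharacter L η) (hS : IsInvQ St.L_inv η)
    (hG : ∀ (g : G) (l : L), η (conjHom L g l) = η l) :
    (∀ χ : Cfsg.IrrCharacter G, IsInv φ (χ : G → ℂ) →
      Cfsg.classInner (fun l : L => (χ : G → ℂ) l) η ≠ 0 →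
      (∃! ψ : Cfsg.IrrCharacter H, ∃ m : ℕ,
        Cfsg.classInner (fun h : H => (χ : G → ℂ) h) (ψ : H → ℂ) = (m : ℂ) ∧ Odd m) ∧
      ∀ χ' : Cfsg.IrrCharacter G, IsInv φ (χ' : G → ℂ) →
        Cfsg.classInner (fun l : L => (χ' : G → ℂ) l) η ≠ 0 → ∀ ψ : Cfsg.IrrCharacter H,
        (∃ m : ℕ, Cfsg.classInner (fun h : H => (χ : G → ℂ) h) (ψ : H → ℂ) = (m : ℂ) ∧ Odd m) →
        (∃ m : ℕ, Cfsg.classInner (fun h : H => (χ' : G → ℂ) h) (ψ : H → ℂ) = (m : ℂ) ∧ Odd m) →
        χ = χ') ∧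
    ∀ ψ : Cfsg.IrrCharacter H,
      Cfsg.classInner (fun l : L => (ψ : H → ℂ) ⟨l, St.L_le_H l.2⟩) η ≠ 0 →
      (∀ s, ∀ h : H, (ψ : H → ℂ) ⟨φ s h, St.H_inv s h.2⟩ = (ψ : H → ℂ) h) →
      ∃ χ : Cfsg.IrrCharacter G, IsInv φ (χ : G → ℂ) ∧
        Cfsg.classInner (fun l : L => (χ : G → ℂ) l) η ≠ 0 ∧
        ∃ m : ℕ, Cfsg.classInner (fun h : H => (χ : G → ℂ) h) (ψ : H → ℂ) = (m : ℂ) ∧ Odd m := by
  classical
  obtain ⟨θ, ⟨n, ρ, hρ, rfl⟩, hθinv, hθover, hθconj, huniq⟩ := St.exists_theta hη hS hG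
  obtain ⟨P, a, ha, htr⟩ := St.exists_pivot hη hG ρ hθinv hθconj hθover
  have hθirr : Cfsg.IsIrrCharacter K ρ.character := isIrrCharacter_of_rep ρ
  have horbit : conjOrbit K ρ.character = {ρ.character} := by
    ext f
    rw [mem_conjOrbit, Finset.mem_singleton]
    have : ∀ g, conjChar K g ρ.character = ρ.character := fun g => funext fun k =>
      (congrArg ρ.character (Subtype.ext (by simp [conjK]))).trans (hθconj g k)
    exact ⟨fun ⟨g, hg⟩ => hg.trans (this g), fun hf => ⟨1, hf.trans (this 1).symm⟩⟩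
  have hover : ∀ χ : Cfsg.IrrCharacter G,
      Cfsg.classInner (fun k : K => (χ : G → ℂ) k) ρ.character ≠ 0 → OverRho ρ (χ : G → ℂ) :=
    fun χ hne => by
      have h := clifford K χ.2 hθirr hne
      obtain ⟨m, hm⟩ := IsCharacter.exists_classInner_nat
        (IsCharacter.restrict (IsIrrCharacter.isCharacter χ.2) K) (IsIrrCharacter.isCharacter hθirr)
      rw [hm, horbit, Finset.sum_singleton] at h
      exact ⟨m, fun k => congrFun h k⟩
  have hOverRho : ∀ χ : Cfsg.IrrCharacter G, IsInv φ (χ : G → ℂ) →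
      Cfsg.classInner (fun l : L => (χ : G → ℂ) l) η ≠ 0 → OverRho ρ (χ : G → ℂ) := fun χ hχ hcon => by
    haveI := St.solv
    obtain ⟨θ1, hθ1inv, hθ1⟩ := CoprimeConst.exists_inv_under St.K_inv
      (St.cop.coprime_dvd_right (Subgroup.index_dvd_card K)) (Or.inr inferInstance) χ hχ
    refine hover χ ?_
    rw [← huniq _ θ1.2 hθ1inv ?_]
    · exact hθ1
    intro h0
    let ι : L →* K := Subgroup.inclusion St.LK
    obtain ⟨η1, hη1⟩ := IsCharacter.exists_constituent
      (IsCharacter.comp (IsIrrCharacter.isCharacter θ1.2) ι)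
      (fun e => IsIrrCharacter.one_ne_zero θ1.2 (by simpa using congrFun e 1))
    have h2 := constituent_trans ι (IsCharacter.restrict (IsIrrCharacter.isCharacter χ.2) K) θ1.2 hθ1
      (IsIrrCharacter.isCharacter η1.2) hη1
    obtain ⟨g, hg⟩ := (mem_conjOrbit L).1 (restrict_constituent_conj L χ.2 hη η1.2 hcon h2)
    refine hη1 ?_
    rw [show (η1 : L → ℂ) = η from hg.trans (funext fun l => hG g l)]
    exact h0
  have hgood : ∀ χ : Cfsg.IrrCharacter G, OverRho ρ (χ : G → ℂ) →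
      Cfsg.classInner (fun l : L => (χ : G → ℂ) l) η ≠ 0 := fun χ ⟨m, hm⟩ => by
    have hm0 : (m : ℂ) ≠ 0 := fun h => IsIrrCharacter.one_ne_zero χ.2 (by
      have := hm 1
      rw [h, zero_mul] at this
      exact this)
    have e : (fun l : L => (χ : G → ℂ) l) = (m : ℂ) • fun l : L => ρ.character ⟨l, St.LK l.2⟩ :=
      funext fun l => hm ⟨l, St.LK l.2⟩
    rw [e, classInner_smul_left]
    exact mul_ne_zero hm0 hθover
  have hcore := fun (χ : Cfsg.IrrCharacter G) (hm : OverRho ρ (χ : G → ℂ)) =>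
    core P St.LK St.L_le_H St.K_sup_H St.quot_comm St.odd χ.2 hm
  refine ⟨fun χ hχ hcon => ⟨(hcore χ (hOverRho χ hχ hcon)).1, fun χ' hχ' hcon' ψ h1 h2 =>
    Subtype.ext ((hcore χ (hOverRho χ hχ hcon)).2 _ χ'.2 (hOverRho χ' hχ' hcon') ψ h1 h2)⟩,
    fun ψ hψ hψS => ?_⟩
  have hψ' : Cfsg.classInner η (fun l : L => (ψ : H → ℂ) ⟨l, St.L_le_H l.2⟩) ≠ 0 := fun h => hψ (by
    rw [← classInner_conj_symm, h, map_zero])
  obtain ⟨χ, hm, hodd⟩ := core_surjective P St.LK St.L_le_H St.K_sup_H St.quot_comm St.odd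
    (fun h hh hk => St.K_inf_H hh hk) ha hθconj htr ψ hψ' hover
  refine ⟨χ, fun s g => ?_, hgood χ hm, hodd⟩
  let χ' : Cfsg.IrrCharacter G :=
    ⟨fun g => (χ : G → ℂ) (φ s g), IsIrrCharacter.comp χ.2 (φ s).toMonoidHom (φ s).surjective⟩
  have hm' : OverRho ρ (χ' : G → ℂ) := by
    obtain ⟨m, hm⟩ := hm
    refine ⟨m, fun k => ?_⟩
    rw [← hθinv s k]
    exact hm ⟨φ s k, St.K_inv s k k.2⟩
  obtain ⟨m, hm1, hm2⟩ := hodd
  have hodd' : ∃ m : ℕ, Cfsg.classInner (fun h : H => (χ' : G → ℂ) h) (ψ : H → ℂ) = (m : ℂ) ∧ Odd m := by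
    refine ⟨m, ?_, hm2⟩
    rw [← hm1]
    conv_rhs => rw [← RelGlauberman.classInner_comp_surj
      (CoprimeConst.actSub φ H (fun u q hq => St.H_inv u hq) s).toMonoidHom
      (CoprimeConst.actSub φ H (fun u q hq => St.H_inv u hq) s).surjective]
    congr 1
    exact funext fun h => (hψS s h).symm
  exact (congrFun ((hcore χ hm).2 _ χ'.2 hm' ψ ⟨m, hm1, hm2⟩ hodd') g).symm

end Setting

end Cfsg.Agent.OddSection
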