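/-
Passing to the inertia group of an invariant character of the bottom of the section.
-/
import Cfsg.Agent.Lib.OddSection.Invariant

set_option linter.unusedSectionVars false
set_option linter.style.haveILetI false

namespace Cfsg.Agent.OddSection

open Module Cfsg.Agent.Char
open Cfsg.Agent.GlaubermanMod (IsInv)
open Cfsg.Agent.RelGlauberman (IsInvQ)

universe u v

section general

variable {X : Type u} [Group X] [Fintype X]

/-- Induction commutes with automorphisms stabilising the subgroup. -/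
theorem indFun_comp_aut (α : MulAut X) (T : Subgroup X) (hT : ∀ x, α x ∈ T ↔ x ∈ T) (f : T → ℂ)
    (g : X) : Cfsg.indFun T (fun t => f ⟨α t, (hT t).2 t.2⟩) g = Cfsg.indFun T f (α g) := by
  classical
  rw [indFun_apply, indFun_apply]
  congr 1
  refine Fintype.sum_equiv α.toEquiv _ _ fun x => ?_
  have e : (α x)⁻¹ * α g * α x = α (x⁻¹ * g * x) := by rw [map_mul, map_mul, map_inv]
  show _ = Cfsg.extendByZero T f ((α x)⁻¹ * α g * α x)
  rw [e]
  by_cases h : x⁻¹ * g * x ∈ T
  · rw [extendByZero_mem T _ h, extendByZero_mem T f ((hT _).2 h)]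
  · rw [extendByZero_not_mem T _ h, extendByZero_not_mem T f fun h' => h ((hT _).1 h')]

/-- An invariant subgroup is stabilised by each operator. -/
theorem apply_mem_iff' {R : Type v} [Group R] (ψ : R →* MulAut X) {Q : Subgroup X}
    (hQ : ∀ r, ∀ q ∈ Q, ψ r q ∈ Q) (r : R) (x : X) : ψ r x ∈ Q ↔ x ∈ Q :=
  ⟨fun h => by simpa using hQ r⁻¹ _ h, hQ r x⟩

/-- A constituent of a restriction lies over a conjugate of the bottom character. -/
theorem constituent_below (N : Subgroup X) [N.Normal] [Fintype N] {η : N → ℂ}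
    (hη : Cfsg.IsIrrCharacter N η) {B : Type u} [Group B] [Fintype B] (ι : B →* X) (j : N →* B)
    (hj : ∀ n, ι (j n) = (n : X)) {χ : X → ℂ} (hχ : Cfsg.IsIrrCharacter X χ)
    (hover : Cfsg.classInner (fun n : N => χ n) η ≠ 0) {β : B → ℂ}
    (hβ : Cfsg.IsIrrCharacter B β) (hc : Cfsg.classInner (fun b => χ (ι b)) β ≠ 0) :
    ∃ g : X, Cfsg.classInner (fun n => β (j n)) (conjChar N g η) ≠ 0 := by
  obtain ⟨η', hη'⟩ := IsCharacter.exists_constituent (IsCharacter.comp (IsIrrCharacter.isCharacter hβ) j)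
    (fun e => IsIrrCharacter.one_ne_zero hβ (by simpa using congrFun e 1))
  have h2 := constituent_trans j (IsCharacter.comp (IsIrrCharacter.isCharacter hχ) ι) hβ hc
    (IsIrrCharacter.isCharacter η'.2) hη'
  simp only [hj] at h2
  obtain ⟨g, hg⟩ := (mem_conjOrbit N).1 (restrict_constituent_conj N hχ hη η'.2 hover h2)
  exact ⟨g, hg ▸ hη'⟩

/-- The Clifford correspondent carries all constituents over the bottom character. -/
theorem clifford_mult_eq (T : Subgroup X) [Fintype T] (N : Type u) [Group N] [Fintype N]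
    (i : N →* T) {η : N → ℂ} (hη : Cfsg.IsCharacter N η) {B : Type u} [Group B] [Fintype B]
    (ι : B →* T) (j : N →* B) (hj : ∀ n, ι (j n) = i n) {χ : X → ℂ}
    (hχ : Cfsg.IsIrrCharacter X χ) {χ₁ : T → ℂ} (hχ₁ : Cfsg.IsIrrCharacter T χ₁)
    (hind : Cfsg.indFun T χ₁ = χ)
    (hmult : Cfsg.classInner (fun n => χ (i n : T)) η = Cfsg.classInner (fun n => χ₁ (i n)) η)
    {β : B → ℂ} (hβ : Cfsg.IsIrrCharacter B β)
    (hβη : Cfsg.classInner (fun n => β (j n)) η ≠ 0) :
    Cfsg.classInner (fun b => χ (ι b : T)) β = Cfsg.classInner (fun b => χ₁ (ι b)) β := by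
  classical
  have hχc := IsCharacter.isClassFunction (IsIrrCharacter.isCharacter hχ)
  obtain ⟨m, hm⟩ := IsCharacter.exists_decomp (IsCharacter.restrict (IsIrrCharacter.isCharacter hχ) T)
  let a : Cfsg.IrrCharacter T := ⟨χ₁, hχ₁⟩
  have hma : (m a : ℂ) = 1 := by
    rw [← classInner_combination (fun τ => (m τ : ℂ)) a, ← hm,
      show ((a : Cfsg.IrrCharacter T) : T → ℂ) = χ₁ from rfl, ← classInner_indFun_right T χ₁ hχc,
      hind, classInner_self_irr hχ]
  choose k hk using fun τ : Cfsg.IrrCharacter T =>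
    IsCharacter.exists_classInner_nat (IsCharacter.comp (IsIrrCharacter.isCharacter τ.2) i) hη
  have e : ∀ {C : Type u} [Group C] (c : C →* T),
      (fun x => χ (c x : T)) = ∑ τ, (m τ : ℂ) • fun x => (τ : T → ℂ) (c x) := fun c => by
    funext x
    have := congrFun hm (c x)
    simp only [Finset.sum_apply, Pi.smul_apply] at this ⊢
    exact this
  have hsum : ∑ τ, m τ * k τ = k a := by
    have h := hmult
    rw [e i, classInner_sum_left,
      show Cfsg.classInner (fun n => χ₁ (i n)) η = (k a : ℂ) from hk a,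
      Finset.sum_congr rfl fun τ _ => by rw [classInner_smul_left, hk τ]] at h
    exact_mod_cast h
  rw [e ι, classInner_sum_left, Finset.sum_eq_single a]
  · rw [classInner_smul_left, hma, one_mul]
  · intro τ _ hτ
    rw [classInner_smul_left]
    by_contra hne
    rw [mul_eq_zero, not_or, Nat.cast_eq_zero] at hne
    have hkτ : k τ ≠ 0 := fun h0 => by
      have h1 := constituent_trans j (IsCharacter.comp (IsIrrCharacter.isCharacter τ.2) ι) hβ hne.2
        hη hβη
      simp only [hj] at h1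
      exact h1 ((hk τ).trans (by rw [h0, Nat.cast_zero]))
    have h2 : m a * k a + m τ * k τ ≤ ∑ τ, m τ * k τ := by
      rw [← Finset.sum_pair (f := fun τ => m τ * k τ) (Ne.symm hτ)]
      exact Finset.sum_le_sum_of_subset (Finset.subset_univ _)
    have h3 : m a = 1 := by exact_mod_cast hma
    have h4 : 0 < m τ * k τ := Nat.mul_pos (Nat.pos_of_ne_zero hne.1) (Nat.pos_of_ne_zero hkτ)
    rw [hsum, h3, one_mul] at h2
    omega
  · exact fun h => absurd (Finset.mem_univ _) h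

end general

variable {G : Type u} [Group G] [Fintype G] {S : Type v} [Group S] [Finite S] {φ : S →* MulAut G}
  {K L H : Subgroup G}

/-- The multiplicity is odd. -/
def OddMult [Fintype H] (χ : G → ℂ) (ψ : H → ℂ) : Prop :=
  ∃ m : ℕ, Cfsg.classInner (fun h : H => χ h) ψ = (m : ℂ) ∧ Odd m

namespace Setting

theorem L_subH_inv (St : Setting φ K L H) (s : S) : ∀ q ∈ L.subgroupOf H,
    CoprimeConst.actSub φ H (fun u _ hq => St.H_inv u hq) s q ∈ L.subgroupOf H :=
  fun q hq => Subgroup.mem_subgroupOf.2 (St.L_inv s _ (Subgroup.mem_subgroupOf.1 hq))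

/-- The correspondence over one invariant character of the bottom. -/
theorem local_corr (St : Setting φ K L H) [K.Normal] [L.Normal] [Fintype L] [Fintype H]
    {η : L → ℂ} (hη : Cfsg.IsIrrCharacter L η) (hS : IsInvQ St.L_inv η) :
    (∀ χ : Cfsg.IrrCharacter G, IsInv φ (χ : G → ℂ) →
      Cfsg.classInner (fun l : L => (χ : G → ℂ) l) η ≠ 0 →
      (∃ ψ : Cfsg.IrrCharacter H,
        IsInv (CoprimeConst.actSub φ H fun u _ hq => St.H_inv u hq) (ψ : H → ℂ) ∧
        OddMult (χ : G → ℂ) (ψ : H → ℂ) ∧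
        ∀ ψ' : Cfsg.IrrCharacter H,
          Cfsg.classInner (fun l : L => (ψ' : H → ℂ) ⟨l, St.L_le_H l.2⟩) η ≠ 0 →
          OddMult (χ : G → ℂ) (ψ' : H → ℂ) → ψ' = ψ) ∧
      ∀ χ' : Cfsg.IrrCharacter G, IsInv φ (χ' : G → ℂ) →
        Cfsg.classInner (fun l : L => (χ' : G → ℂ) l) η ≠ 0 → ∀ ψ : Cfsg.IrrCharacter H,
        Cfsg.classInner (fun l : L => (ψ : H → ℂ) ⟨l, St.L_le_H l.2⟩) η ≠ 0 →
        OddMult (χ : G → ℂ) (ψ : H → ℂ) → OddMult (χ' : G → ℂ) (ψ : H → ℂ) → χ = χ') ∧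
    ∀ ψ : Cfsg.IrrCharacter H,
      Cfsg.classInner (fun l : L => (ψ : H → ℂ) ⟨l, St.L_le_H l.2⟩) η ≠ 0 →
      IsInv (CoprimeConst.actSub φ H fun u _ hq => St.H_inv u hq) (ψ : H → ℂ) →
      ∃ χ : Cfsg.IrrCharacter G, IsInv φ (χ : G → ℂ) ∧ OddMult (χ : G → ℂ) (ψ : H → ℂ) := by
  classical
  have hηc := IsCharacter.isClassFunction (IsIrrCharacter.isCharacter hη)
  -- the inertia group
  obtain ⟨T, hTdef⟩ : ∃ T : Subgroup G, T = inertia L η := ⟨_, rfl⟩
  haveI : Fintype T := Fintype.ofFinite T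
  have hLT : L ≤ T := hTdef ▸ le_inertia L hηc
  have hTS : ∀ s, ∀ t ∈ T, φ s t ∈ T := fun s t ht => by
    rw [hTdef] at ht ⊢
    exact (RelGlauberman.apply_mem_inertia St.L_inv hS s t).2 ht
  have hsplit : ∀ {k c : G}, k ∈ K → (∀ s, φ s c = c) → k * c ∈ T → k ∈ T ∧ c ∈ T := by
    intro k c hk hc hkc
    have h1 : conjChar L k η = conjChar L c⁻¹ η := by
      have h2 : conjChar L (k * c) η = η := by rw [hTdef] at hkc; exact hkc
      have h3 := congrArg (conjChar L c⁻¹) h2
      rw [← conjChar_mul, mul_inv_cancel_right] at h3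
      exact h3
    have hci : IsInvQ St.L_inv (conjChar L c⁻¹ η) := fun s q => by
      refine Eq.trans (congrArg η (Subtype.ext ?_)) (hS s ⟨c⁻¹ * q * c⁻¹⁻¹, ‹L.Normal›.conj_mem _ q.2 _⟩)
      show c⁻¹ * φ s (q : G) * c⁻¹⁻¹ = φ s (c⁻¹ * (q : G) * c⁻¹⁻¹)
      simp [hc s]
    have hdiff : ∀ s, φ s k * k⁻¹ ∈ T := fun s => by
      rw [hTdef, mem_inertia, conjChar_mul, RelGlauberman.conjChar_apply_inv St.L_inv hS hci h1 s,
        ← h1, ← conjChar_mul, mul_inv_cancel, conjChar_one]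
    letI : CommGroup (K ⧸ L.subgroupOf K) :=
      { (inferInstance : Group (K ⧸ L.subgroupOf K)) with mul_comm := St.quot_comm }
    let M := (T.subgroupOf K).map (QuotientGroup.mk' (L.subgroupOf K))
    have h4 := St.hom_eq_one (QuotientGroup.mk' M) ⟨k, hk⟩ fun s => by
      rw [QuotientGroup.mk'_apply, QuotientGroup.mk'_apply, QuotientGroup.eq_iff_div_mem]
      refine ⟨⟨φ s k * k⁻¹, K.mul_mem (St.K_inv s k hk) (K.inv_mem hk)⟩, hdiff s, ?_⟩
      rw [div_eq_mul_inv]
      rfl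
    rw [QuotientGroup.mk'_apply, QuotientGroup.eq_one_iff] at h4
    obtain ⟨x, hx, hxk⟩ := h4
    rw [QuotientGroup.mk'_apply, QuotientGroup.eq, Subgroup.mem_subgroupOf] at hxk
    have hkT : k ∈ T := by
      have := T.mul_mem (Subgroup.mem_subgroupOf.1 hx) (hLT hxk)
      simpa using this
    exact ⟨hkT, by simpa using T.mul_mem (T.inv_mem hkT) hkc⟩
  -- the data inside `T`
  let φ₁ := CoprimeConst.actSub φ T hTS
  haveI : (L.subgroupOf T).Normal := inferInstance
  haveI : (K.subgroupOf T).Normal := inferInstance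
  have St₁ : Setting φ₁ (K.subgroupOf T) (L.subgroupOf T) (H.subgroupOf T) :=
    { odd := Odd.of_dvd_nat St.odd (Subgroup.card_subgroup_dvd_card T)
      cop := St.cop.coprime_dvd_right (Subgroup.card_subgroup_dvd_card T)
      solv := by haveI := St.solv; infer_instance
      K_normal := inferInstance
      L_normal := inferInstance
      LK := fun x hx => St.LK hx
      K_inv := fun s k hk => St.K_inv s _ hk
      L_inv := fun s k hk => St.L_inv s _ hk
      comm := fun a ha b hb => St.comm _ ha _ hb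
      fix := fun k hk h => St.fix _ hk h
      gen := fun g => by
        obtain ⟨k, hk, c, hc, e⟩ := St.gen g
        obtain ⟨hkT, hcT⟩ := hsplit hk hc (e ▸ g.2)
        exact ⟨⟨k, hkT⟩, hk, ⟨c, hcT⟩, fun s => Subtype.ext (hc s), Subtype.ext e⟩
      memH := fun g => by
        refine ⟨fun hg => ?_, ?_⟩
        · obtain ⟨l, hl, c, hc, e⟩ := (St.memH g).1 hg
          obtain ⟨-, hcT⟩ := hsplit (St.LK hl) hc (e ▸ g.2)
          exact ⟨⟨l, hLT hl⟩, hl, ⟨c, hcT⟩, fun s => Subtype.ext (hc s), Subtype.ext e⟩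
        · rintro ⟨l, hl, c, hc, rfl⟩
          exact (St.memH _).2 ⟨l, hl, c, fun s => congrArg Subtype.val (hc s), rfl⟩ }
  haveI : Fintype (K.subgroupOf T) := Fintype.ofFinite _
  haveI : Fintype (L.subgroupOf T) := Fintype.ofFinite _
  haveI : Fintype (H.subgroupOf T) := Fintype.ofFinite _
  let eL := Subgroup.subgroupOfEquivOfLe hLT
  let η₁ : L.subgroupOf T → ℂ := fun q => η (eL q)
  have hη₁ : Cfsg.IsIrrCharacter (L.subgroupOf T) η₁ :=
    IsIrrCharacter.comp hη eL.toMonoidHom eL.surjective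
  have hS₁ : IsInvQ St₁.L_inv η₁ := fun s q =>
    (congrArg η (Subtype.ext rfl)).trans (hS s (eL q))
  have hG₁ : ∀ (g : T) (q : L.subgroupOf T), η₁ (conjHom (L.subgroupOf T) g q) = η₁ q := fun g q => by
    have hg : conjChar L (g : G) η = η := by
      have h := g.2
      simp only [hTdef] at h
      exact h
    exact (congrArg η (Subtype.ext rfl)).trans (congrFun hg (eL q))
  have hfixη : ∀ t : T, conjChar (L.subgroupOf T) t η₁ = η₁ := fun t => funext (hG₁ t)
  obtain ⟨hA, hC⟩ := St₁.invariant hη₁ hS₁ hG₁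
  -- the inertia group in `H`
  haveI : Fintype (L.subgroupOf H) := Fintype.ofFinite _
  haveI : Fintype (T.subgroupOf H) := Fintype.ofFinite _
  let eH := Subgroup.subgroupOfEquivOfLe St.L_le_H
  let η₂ : L.subgroupOf H → ℂ := fun q => η (eH q)
  have hη₂ : Cfsg.IsIrrCharacter (L.subgroupOf H) η₂ :=
    IsIrrCharacter.comp hη eH.toMonoidHom eH.surjective
  have hT₂ : T.subgroupOf H = inertia (L.subgroupOf H) η₂ := by
    ext h
    rw [Subgroup.mem_subgroupOf, hTdef, mem_inertia, mem_inertia]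
    refine ⟨fun hh => funext fun q => (congrArg η (Subtype.ext rfl)).trans (congrFun hh (eH q)),
      fun hh => funext fun l => ?_⟩
    have h1 := congrFun hh (eH.symm l)
    exact ((congrArg η (Subtype.ext rfl)).trans h1).trans (congrArg η (eH.apply_symm_apply l))
  have hLT₂ : L.subgroupOf H ≤ T.subgroupOf H := fun x hx => hLT hx
  let sw : T.subgroupOf H ≃* H.subgroupOf T :=
    { toFun := fun x => ⟨⟨((x : H) : G), x.2⟩, (x : H).2⟩
      invFun := fun x => ⟨⟨((x : T) : G), x.2⟩, (x : T).2⟩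
      left_inv := fun x => rfl
      right_inv := fun x => rfl
      map_mul' := fun x y => rfl }
  let iH : H.subgroupOf T →* T := (H.subgroupOf T).subtype
  let jL : L.subgroupOf T →* H.subgroupOf T :=
    { toFun := fun q => ⟨q, St.L_le_H q.2⟩
      map_one' := rfl
      map_mul' := fun _ _ => rfl }
  -- multiplicities on the bottom
  have hbotG : ∀ f : G → ℂ, Cfsg.classInner (fun q : L.subgroupOf T => f ((q : T) : G)) η₁ =
      Cfsg.classInner (fun l : L => f l) η := fun f =>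
    RelGlauberman.classInner_comp_surj eL.toMonoidHom eL.surjective (fun l : L => f l) η
  have hbotH : ∀ f : H → ℂ, Cfsg.classInner (fun q : L.subgroupOf H => f q) η₂ =
      Cfsg.classInner (fun l : L => f ⟨l, St.L_le_H l.2⟩) η := fun f =>
    RelGlauberman.classInner_comp_surj eH.toMonoidHom eH.surjective
      (fun l : L => f ⟨l, St.L_le_H l.2⟩) η
  have hbotT : ∀ f : H.subgroupOf T → ℂ,
      Cfsg.classInner (fun q : L.subgroupOf H => f (sw ⟨(q : H), hLT₂ q.2⟩)) η₂ =
        Cfsg.classInner (fun q => f (jL q)) η₁ := fun f =>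
    (RelGlauberman.classInner_comp_surj eH.toMonoidHom eH.surjective
      (fun l : L => f ⟨⟨(l : G), hLT l.2⟩, St.L_le_H l.2⟩) η).trans
    (RelGlauberman.classInner_comp_surj eL.toMonoidHom eL.surjective
      (fun l : L => f ⟨⟨(l : G), hLT l.2⟩, St.L_le_H l.2⟩) η).symm
  -- Clifford correspondents
  have downG : ∀ χ : Cfsg.IrrCharacter G, IsInv φ (χ : G → ℂ) →
      Cfsg.classInner (fun l : L => (χ : G → ℂ) l) η ≠ 0 →
      ∃ χ₁ : Cfsg.IrrCharacter T, IsInv φ₁ (χ₁ : T → ℂ) ∧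
        Cfsg.indFun T (χ₁ : T → ℂ) = (χ : G → ℂ) ∧
        Cfsg.classInner (fun q : L.subgroupOf T => (χ₁ : T → ℂ) q) η₁ =
          Cfsg.classInner (fun q : L.subgroupOf T => (χ : G → ℂ) ((q : T) : G)) η₁ ∧
        Cfsg.classInner (fun q : L.subgroupOf T => (χ₁ : T → ℂ) q) η₁ ≠ 0 := by
    intro χ hχ hcon
    obtain ⟨c, hc, hind, hmult⟩ := clifford_correspondence_surjective L hη hTdef hLT χ.2 hcon
    have htr : Cfsg.classInner (fun q : L.subgroupOf T => c q) η₁ =
        Cfsg.classInner (fun l : L => c ⟨l, hLT l.2⟩) η :=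
      RelGlauberman.classInner_comp_surj eL.toMonoidHom eL.surjective
        (fun l : L => c ⟨l, hLT l.2⟩) η
    refine ⟨⟨c, hc⟩, fun s t => ?_, hind, htr.trans (hmult.trans (hbotG _).symm),
      fun h => hcon (hmult.symm.trans (htr.symm.trans h))⟩
    let c' : T → ℂ := fun t => c (φ₁ s t)
    have hc' : Cfsg.IsIrrCharacter T c' :=
      IsIrrCharacter.comp hc (φ₁ s).toMonoidHom (φ₁ s).surjective
    have hmult' : Cfsg.classInner (fun l : L => c' ⟨l, hLT l.2⟩) η =
        Cfsg.classInner (fun l : L => c ⟨l, hLT l.2⟩) η := by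
      conv_rhs => rw [← RelGlauberman.classInner_comp_surj (CoprimeConst.actSub φ L St.L_inv s).toMonoidHom
        (CoprimeConst.actSub φ L St.L_inv s).surjective]
      congr 1
      exact funext fun l => (hS s l).symm
    have hind' : Cfsg.indFun T c' = Cfsg.indFun T c := funext fun g => by
      rw [hind]
      refine (indFun_comp_aut (φ s) T (fun x => apply_mem_iff' φ hTS s x) c g).trans ?_
      rw [hind]
      exact hχ s g
    exact congrFun (clifford_correspondence_injective L hη hTdef hLT hc' hc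
      (by rw [hmult', hmult]; exact hcon) (by rw [hmult]; exact hcon) hind') t
  have upH : ∀ ψ₁ : Cfsg.IrrCharacter (H.subgroupOf T),
      Cfsg.classInner (fun q => (ψ₁ : H.subgroupOf T → ℂ) (jL q)) η₁ ≠ 0 →
      Cfsg.IsIrrCharacter H (Cfsg.indFun (T.subgroupOf H) fun x => (ψ₁ : H.subgroupOf T → ℂ) (sw x)) :=
    fun ψ₁ h1 => (clifford_correspondence (L.subgroupOf H) hη₂ hT₂ hLT₂
      (IsIrrCharacter.comp ψ₁.2 sw.toMonoidHom sw.surjective)
      (fun h => h1 ((hbotT _).symm.trans h))).1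
  have downH : ∀ ψ : Cfsg.IrrCharacter H,
      Cfsg.classInner (fun l : L => (ψ : H → ℂ) ⟨l, St.L_le_H l.2⟩) η ≠ 0 →
      ∃ ψ₁ : Cfsg.IrrCharacter (H.subgroupOf T),
        Cfsg.classInner (fun q => (ψ₁ : H.subgroupOf T → ℂ) (jL q)) η₁ ≠ 0 ∧
        Cfsg.indFun (T.subgroupOf H) (fun x => (ψ₁ : H.subgroupOf T → ℂ) (sw x)) = (ψ : H → ℂ) := by
    intro ψ hcon
    obtain ⟨c, hc, hind, hmult⟩ := clifford_correspondence_surjective (L.subgroupOf H) hη₂ hT₂ hLT₂
      ψ.2 (fun h => hcon ((hbotH _).symm.trans h))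
    refine ⟨⟨fun x => c (sw.symm x), IsIrrCharacter.comp hc sw.symm.toMonoidHom sw.symm.surjective⟩,
      fun h => hcon ?_, ?_⟩
    · have h1 := (hbotT fun x => c (sw.symm x)).trans h
      simp only [MulEquiv.symm_apply_apply] at h1
      exact (hbotH _).symm.trans (hmult.symm.trans h1)
    · simp only [MulEquiv.symm_apply_apply]
      exact hind
  have transfer : ∀ (χ : Cfsg.IrrCharacter G) (χ₁ : Cfsg.IrrCharacter T),
      Cfsg.indFun T (χ₁ : T → ℂ) = (χ : G → ℂ) →
      Cfsg.classInner (fun q : L.subgroupOf T => (χ₁ : T → ℂ) q) η₁ =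
          Cfsg.classInner (fun q : L.subgroupOf T => (χ : G → ℂ) ((q : T) : G)) η₁ →
      ∀ ψ₁ : Cfsg.IrrCharacter (H.subgroupOf T),
      Cfsg.classInner (fun q => (ψ₁ : H.subgroupOf T → ℂ) (jL q)) η₁ ≠ 0 →
      ∀ ψ : H → ℂ, Cfsg.indFun (T.subgroupOf H) (fun x => (ψ₁ : H.subgroupOf T → ℂ) (sw x)) = ψ →
      Cfsg.classInner (fun h : H => (χ : G → ℂ) h) ψ =
        Cfsg.classInner (fun x : H.subgroupOf T => (χ₁ : T → ℂ) x) (ψ₁ : H.subgroupOf T → ℂ) := by
    intro χ χ₁ hind hmult ψ₁ hψ₁ ψ hψ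
    rw [← hψ, classInner_indFun_right (T.subgroupOf H) _
      (IsCharacter.isClassFunction (IsCharacter.restrict (IsIrrCharacter.isCharacter χ.2) H))]
    refine Eq.trans ?_ (clifford_mult_eq T (L.subgroupOf T) (L.subgroupOf T).subtype
      (IsIrrCharacter.isCharacter hη₁) iH jL (fun q => rfl) χ.2 χ₁.2 hind hmult.symm ψ₁.2 hψ₁)
    exact RelGlauberman.classInner_comp_surj sw.toMonoidHom sw.surjective
      (fun x : H.subgroupOf T => (χ : G → ℂ) ((x : T) : G)) (ψ₁ : H.subgroupOf T → ℂ)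
  let φH := CoprimeConst.actSub φ H fun u _ hq => St.H_inv u hq
  refine ⟨fun χ hχ hcon => ?_, fun ψ hψ hψS => ?_⟩
  · obtain ⟨χ₁, hχ₁, hind, hmult, hover⟩ := downG χ hχ hcon
    obtain ⟨⟨ψ₁, hψ₁odd, hψ₁uniq⟩, hinj⟩ := hA χ₁ hχ₁ hover
    have hψ₁over : Cfsg.classInner (fun q => (ψ₁ : H.subgroupOf T → ℂ) (jL q)) η₁ ≠ 0 := by
      obtain ⟨m, hm, hmo⟩ := hψ₁odd
      obtain ⟨g, hg⟩ := constituent_below (L.subgroupOf T) hη₁ iH jL (fun q => rfl) χ₁.2 hover ψ₁.2
        (fun h => by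
          have h0 : (m : ℂ) = 0 := hm.symm.trans h
          rw [Nat.cast_eq_zero] at h0
          simp [h0] at hmo)
      rwa [hfixη] at hg
    refine ⟨⟨⟨_, upH ψ₁ hψ₁over⟩, fun s h => ?_, ?_, fun ψ' hψ' hodd => ?_⟩, ?_⟩
    · let φT := CoprimeConst.actSub φ₁ (H.subgroupOf T) fun u _ hq => St.H_inv u hq
      have hps : (⟨fun x => (ψ₁ : H.subgroupOf T → ℂ) (φT s x),
          IsIrrCharacter.comp ψ₁.2 (φT s).toMonoidHom (φT s).surjective⟩ :
            Cfsg.IrrCharacter (H.subgroupOf T)) = ψ₁ := by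
        refine hψ₁uniq _ ?_
        obtain ⟨m, hm, hmo⟩ := hψ₁odd
        refine ⟨m, ?_, hmo⟩
        rw [← hm]
        conv_rhs => rw [← RelGlauberman.classInner_comp_surj (φT s).toMonoidHom (φT s).surjective]
        congr 1
        exact funext fun x => (hχ₁ s x).symm
      show Cfsg.indFun (T.subgroupOf H) _ (φH s h) = Cfsg.indFun (T.subgroupOf H) _ h
      rw [← indFun_comp_aut (φH s) (T.subgroupOf H) (fun x => apply_mem_iff' φ hTS s _)]
      refine congrArg (fun f => Cfsg.indFun (T.subgroupOf H) f h) (funext fun x => ?_)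
      exact congrFun (congrArg Subtype.val hps) (sw x)
    · obtain ⟨m, hm, hmo⟩ := hψ₁odd
      exact ⟨m, (transfer χ χ₁ hind hmult ψ₁ hψ₁over _ rfl).trans hm, hmo⟩
    · obtain ⟨ψ₁', hover', hind'⟩ := downH ψ' hψ'
      have : ψ₁' = ψ₁ := by
        refine hψ₁uniq _ ?_
        obtain ⟨m, hm, hmo⟩ := hodd
        exact ⟨m, (transfer χ χ₁ hind hmult ψ₁' hover' _ hind').symm.trans hm, hmo⟩
      refine Subtype.ext ?_
      rw [← hind', this]
    · intro χ' hχ' hcon' ψ hψ h1 h2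
      obtain ⟨χ₁', hχ₁', hind', hmult', hover''⟩ := downG χ' hχ' hcon'
      obtain ⟨ψ₁', hov, hi⟩ := downH ψ hψ
      obtain ⟨m, hm, hmo⟩ := h1
      obtain ⟨m', hm', hmo'⟩ := h2
      have := hinj χ₁' hχ₁' hover'' ψ₁'
        ⟨m, (transfer χ χ₁ hind hmult ψ₁' hov _ hi).symm.trans hm, hmo⟩
        ⟨m', (transfer χ' χ₁' hind' hmult' ψ₁' hov _ hi).symm.trans hm', hmo'⟩
      exact Subtype.ext (by rw [← hind, ← hind', this])
  · obtain ⟨ψ₁, hov, hi⟩ := downH ψ hψ
    have hψ₁S : ∀ s, ∀ x : H.subgroupOf T,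
        (ψ₁ : H.subgroupOf T → ℂ) ⟨φ₁ s x, St₁.H_inv s x.2⟩ = (ψ₁ : H.subgroupOf T → ℂ) x := by
      intro s
      let φT := CoprimeConst.actSub φ₁ (H.subgroupOf T) fun u _ hq => St₁.H_inv u hq
      have hT' : ∀ x, φH s x ∈ T.subgroupOf H ↔ x ∈ T.subgroupOf H := fun x =>
        apply_mem_iff' φ hTS s _
      let c' : T.subgroupOf H → ℂ := fun x => (ψ₁ : H.subgroupOf T → ℂ) (φT s (sw x))
      have hc' : Cfsg.IsIrrCharacter (T.subgroupOf H) c' :=
        IsIrrCharacter.comp ψ₁.2 ((φT s).toMonoidHom.comp sw.toMonoidHom)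
          ((φT s).surjective.comp sw.surjective)
      have e : c' = fun x => (ψ₁ : H.subgroupOf T → ℂ) (sw x) := by
        refine clifford_correspondence_injective (L.subgroupOf H) hη₂ hT₂ hLT₂ hc'
          (IsIrrCharacter.comp ψ₁.2 sw.toMonoidHom sw.surjective) ?_
          (fun h => hov ((hbotT _).symm.trans h)) (funext fun g => ?_)
        · intro h
          apply hov
          refine Eq.trans ?_ h
          refine Eq.trans ?_ (hbotT fun y => (ψ₁ : H.subgroupOf T → ℂ) (φT s y)).symm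
          conv_lhs => rw [← RelGlauberman.classInner_comp_surj
            (CoprimeConst.actSub φ₁ (L.subgroupOf T) St₁.L_inv s).toMonoidHom
            (CoprimeConst.actSub φ₁ (L.subgroupOf T) St₁.L_inv s).surjective]
          congr 1
          exact funext fun q => hS₁ s q
        · rw [hi, ← hψS s g]
          conv_rhs => rw [← hi]
          exact indFun_comp_aut (φH s) _ hT' (fun x => (ψ₁ : H.subgroupOf T → ℂ) (sw x)) g
      intro x
      have := congrFun e (sw.symm x)
      simp only [c', MulEquiv.apply_symm_apply] at this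
      exact this
    obtain ⟨χ₁, hχ₁, hover, hodd⟩ := hC ψ₁ hov hψ₁S
    have hover' : Cfsg.classInner (fun l : L => (χ₁ : T → ℂ) ⟨l, hLT l.2⟩) η ≠ 0 := fun h => hover
      ((RelGlauberman.classInner_comp_surj eL.toMonoidHom eL.surjective
        (fun l : L => (χ₁ : T → ℂ) ⟨l, hLT l.2⟩) η).trans h)
    obtain ⟨hirr, hmult⟩ := clifford_correspondence L hη hTdef hLT χ₁.2 hover'
    refine ⟨⟨_, hirr⟩, fun s g => ?_, ?_⟩
    · show Cfsg.indFun T (χ₁ : T → ℂ) (φ s g) = Cfsg.indFun T (χ₁ : T → ℂ) g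
      rw [← indFun_comp_aut (φ s) T (fun x => apply_mem_iff' φ hTS s x)]
      exact congrArg (fun f => Cfsg.indFun T f g) (funext fun t => hχ₁ s t)
    · obtain ⟨m, hm, hmo⟩ := hodd
      refine ⟨m, (transfer ⟨_, hirr⟩ χ₁ rfl ?_ ψ₁ hov _ hi).trans hm, hmo⟩
      exact ((RelGlauberman.classInner_comp_surj eL.toMonoidHom eL.surjective
        (fun l : L => (χ₁ : T → ℂ) ⟨l, hLT l.2⟩) η).trans hmult.symm).trans (hbotG _).symm

end Setting

end Cfsg.Agent.OddSection
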