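/-
The correspondence on all invariant characters.
-/
import Cfsg.Agent.Lib.OddSection.Local

set_option linter.unusedSectionVars false
set_option linter.style.haveILetI false

namespace Cfsg.Agent.OddSection

open Module Cfsg.Agent.Char
open Cfsg.Agent.GlaubermanMod (IsInv)
open Cfsg.Agent.RelGlauberman (IsInvQ)

universe u v

variable {G : Type u} [Group G] [Fintype G] {S : Type v} [Group S] [Finite S] {φ : S →* MulAut G}
  {K L H : Subgroup G}

namespace Setting

/-- An invariant character of `H` has an invariant constituent on `L`. -/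
theorem exists_under_H (St : Setting φ K L H) [L.Normal] [Fintype L] [Fintype H]
    (ψ : Cfsg.IrrCharacter H)
    (hψ : IsInv (CoprimeConst.actSub φ H fun u _ hq => St.H_inv u hq) (ψ : H → ℂ)) :
    ∃ η : L → ℂ, Cfsg.IsIrrCharacter L η ∧ IsInvQ St.L_inv η ∧
      Cfsg.classInner (fun l : L => (ψ : H → ℂ) ⟨l, St.L_le_H l.2⟩) η ≠ 0 := by
  haveI := St.solv
  haveI : Fintype (L.subgroupOf H) := Fintype.ofFinite _
  obtain ⟨η', hinv, hne⟩ := CoprimeConst.exists_inv_under St.L_subH_inv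
    (St.cop.coprime_dvd_right ((Subgroup.index_dvd_card _).trans (Subgroup.card_subgroup_dvd_card H)))
    (Or.inr inferInstance) ψ hψ
  let e := Subgroup.subgroupOfEquivOfLe St.L_le_H
  refine ⟨fun l => (η' : L.subgroupOf H → ℂ) (e.symm l),
    IsIrrCharacter.comp η'.2 e.symm.toMonoidHom e.symm.surjective, fun s l => ?_, fun h => hne ?_⟩
  · exact (congrArg (η' : L.subgroupOf H → ℂ) (Subtype.ext (Subtype.ext rfl))).trans (hinv s (e.symm l))
  · refine Eq.trans ?_ h
    exact (RelGlauberman.classInner_comp_surj e.symm.toMonoidHom e.symm.surjective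
      (fun q : L.subgroupOf H => (ψ : H → ℂ) q) (η' : L.subgroupOf H → ℂ)).symm

/-- Invariant conjugates are conjugate by a fixed element. -/
theorem exists_fixed_conj (St : Setting φ K L H) [L.Normal] [Fintype L] {η η' : L → ℂ}
    (hS : IsInvQ St.L_inv η) (hS' : IsInvQ St.L_inv η') {g : G} (hg : conjChar L g η = η') :
    ∃ c : G, (∀ s, φ s c = c) ∧ conjChar L c η = η' := by
  haveI := St.solv
  let T := inertia L η
  have hTS : ∀ s, ∀ t ∈ T, φ s t ∈ T := fun s t ht =>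
    (RelGlauberman.apply_mem_inertia St.L_inv hS s t).2 ht
  let Y := {y : G // conjChar L y η = η'}
  haveI : Nonempty Y := ⟨⟨g, hg⟩⟩
  let a' : S →* Equiv.Perm Y :=
    { toFun := fun s =>
        { toFun := fun y => ⟨φ s y, RelGlauberman.conjChar_apply_inv St.L_inv hS hS' y.2 s⟩
          invFun := fun y => ⟨φ s⁻¹ y, RelGlauberman.conjChar_apply_inv St.L_inv hS hS' y.2 s⁻¹⟩
          left_inv := fun y => Subtype.ext (by simp)
          right_inv := fun y => Subtype.ext (by simp) }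
      map_one' := Equiv.ext fun y => Subtype.ext (by simp)
      map_mul' := fun a b => Equiv.ext fun y => Subtype.ext (by simp) }
  let k' : T →* Equiv.Perm Y :=
    { toFun := fun t =>
        { toFun := fun y => ⟨(t : G) * y, by rw [conjChar_mul, (mem_inertia L).1 t.2, y.2]⟩
          invFun := fun y => ⟨((t⁻¹ : T) : G) * y, by
            rw [conjChar_mul, (mem_inertia L).1 (t⁻¹).2, y.2]⟩
          left_inv := fun y => Subtype.ext (by simp)
          right_inv := fun y => Subtype.ext (by simp) }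
      map_one' := Equiv.ext fun y => Subtype.ext (by simp)
      map_mul' := fun a b => Equiv.ext fun y => Subtype.ext (by simp [mul_assoc]) }
  obtain ⟨y, hy⟩ := CoprimeConst.exists_fixed_point (CoprimeConst.actSub φ T hTS)
    (St.cop.coprime_dvd_right (Subgroup.card_subgroup_dvd_card T))
    (Or.inr inferInstance) a' k' (fun s t y => Subtype.ext (map_mul (φ s) (t : G) (y : G)))
    (fun x y => ⟨⟨(y : G) * (x : G)⁻¹, (mem_inertia L).2 (by
      rw [conjChar_mul, y.2]
      exact (congrArg (conjChar L (x : G)⁻¹) x.2.symm).trans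
        (by rw [← conjChar_mul, mul_inv_cancel, conjChar_one]))⟩,
      Subtype.ext (inv_mul_cancel_right (y : G) (x : G))⟩)
  exact ⟨y, fun s => congrArg Subtype.val (hy s), y.2⟩

/-- The correspondence. -/
theorem correspondence (St : Setting φ K L H) [K.Normal] [L.Normal] [Fintype H] :
    (∀ χ : Cfsg.IrrCharacter G, IsInv φ (χ : G → ℂ) →
      ∃! ψ : Cfsg.IrrCharacter H,
        IsInv (CoprimeConst.actSub φ H fun u _ hq => St.H_inv u hq) (ψ : H → ℂ) ∧
        OddMult (χ : G → ℂ) (ψ : H → ℂ)) ∧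
    (∀ χ χ' : Cfsg.IrrCharacter G, IsInv φ (χ : G → ℂ) → IsInv φ (χ' : G → ℂ) →
      ∀ ψ : Cfsg.IrrCharacter H,
        IsInv (CoprimeConst.actSub φ H fun u _ hq => St.H_inv u hq) (ψ : H → ℂ) →
        OddMult (χ : G → ℂ) (ψ : H → ℂ) → OddMult (χ' : G → ℂ) (ψ : H → ℂ) → χ = χ') ∧
    ∀ ψ : Cfsg.IrrCharacter H,
      IsInv (CoprimeConst.actSub φ H fun u _ hq => St.H_inv u hq) (ψ : H → ℂ) →
      ∃ χ : Cfsg.IrrCharacter G, IsInv φ (χ : G → ℂ) ∧ OddMult (χ : G → ℂ) (ψ : H → ℂ) := by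
  classical
  haveI := St.solv
  haveI : Fintype L := Fintype.ofFinite L
  have hne : ∀ {χ : G → ℂ} {ψ : H → ℂ}, OddMult χ ψ →
      Cfsg.classInner (fun h : H => χ h) ψ ≠ 0 := fun ⟨m, hm, hmo⟩ h => by
    rw [hm, Nat.cast_eq_zero] at h
    simp [h] at hmo
  have hunder : ∀ (χ : Cfsg.IrrCharacter G) (ψ : Cfsg.IrrCharacter H) (η : L → ℂ),
      Cfsg.IsIrrCharacter L η → OddMult (χ : G → ℂ) (ψ : H → ℂ) →
      Cfsg.classInner (fun l : L => (ψ : H → ℂ) ⟨l, St.L_le_H l.2⟩) η ≠ 0 →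
      Cfsg.classInner (fun l : L => (χ : G → ℂ) l) η ≠ 0 := fun χ ψ η hη hodd hψ =>
    constituent_trans (Subgroup.inclusion St.L_le_H)
      (IsCharacter.restrict (IsIrrCharacter.isCharacter χ.2) H) ψ.2 (hne hodd)
      (IsIrrCharacter.isCharacter hη) hψ
  refine ⟨fun χ hχ => ?_, fun χ χ' hχ hχ' ψ hψ h1 h2 => ?_, fun ψ hψ => ?_⟩
  · obtain ⟨η, hS, hcon⟩ := CoprimeConst.exists_inv_under St.L_inv
      (St.cop.coprime_dvd_right (Subgroup.index_dvd_card L)) (Or.inr inferInstance) χ hχ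
    obtain ⟨⟨ψ, hψS, hodd, huniq⟩, -⟩ := (St.local_corr η.2 hS).1 χ hχ hcon
    refine ⟨ψ, ⟨hψS, hodd⟩, fun ψ' ⟨hψ'S, hodd'⟩ => huniq ψ' ?_ hodd'⟩
    obtain ⟨η', hη', hS', hψ'⟩ := St.exists_under_H ψ' hψ'S
    obtain ⟨g, hg⟩ := (mem_conjOrbit L).1
      (restrict_constituent_conj L χ.2 η.2 hη' hcon (hunder χ ψ' η' hη' hodd' hψ'))
    obtain ⟨c, hc, hce⟩ := St.exists_fixed_conj hS hS' hg.symm
    have hcH : c ∈ H := (St.memH c).2 ⟨1, L.one_mem, c, hc, (one_mul c).symm⟩
    intro h0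
    apply hψ'
    rw [← hce, ← h0]
    conv_rhs => rw [← classInner_conjChar L _ _ c]
    congr 1
    funext l
    refine Eq.trans (IsCharacter.isClassFunction (IsIrrCharacter.isCharacter ψ'.2)
      ⟨l, St.L_le_H l.2⟩ ⟨c, hcH⟩).symm ?_
    rfl
  · obtain ⟨η, hη, hS, hψη⟩ := St.exists_under_H ψ hψ
    obtain ⟨-, hinj⟩ := (St.local_corr hη hS).1 χ hχ (hunder χ ψ η hη h1 hψη)
    exact hinj χ' hχ' (hunder χ' ψ η hη h2 hψη) ψ hψη h1 h2
  · obtain ⟨η, hη, hS, hψη⟩ := St.exists_under_H ψ hψ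
    exact (St.local_corr hη hS).2 ψ hψη hψ

end Setting

end Cfsg.Agent.OddSection
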